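import Groth.Agent.Mero.K149.RegMero
import Groth.Agent.Pi1C.ZeroScheme
import Groth.Agent.Fdesc.LocGenTensor
import Groth.Prelude.Def_SecTwist
import Mathlib.AlgebraicGeometry.FunctionField

/-!
# Cartier divisors and zero schemes of sections

* `isLoc_of_isDivOfIdeal`, `isDivOfIdeal_of_local` : `D` is the divisor of `Z(s)` iff locally `s = c • e`, `c` regular and
  `D = div c`.
* `exists_divisor_of_section`, `exists_section_of_effective`, `isDivOfIdeal_mul`.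
-/

set_option autoImplicit false
universe u

open CategoryTheory CategoryTheory.Limits AlgebraicGeometry Opposite TopologicalSpace
open Groth.Agent.Fdesc.LocGen

namespace K149.ZeroSch

open Mero K149.Basic K149.Affine K149.Div K149.RegMero

variable {X : Scheme.{u}}

/-- A regular function as a unit of `K_X`. -/
noncomputable def tu {U : X.Opens} {c : Γ(X, U)} (hc : c ∈ regSub X U) : (Γ(kmod X, U))ˣ :=
  (isUnit_toK hc).unit

@[simp] lemma tu_val {U : X.Opens} {c : Γ(X, U)} (hc : c ∈ regSub X U) :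
    (tu hc : Γ(kmod X, U)) = toK X U c := rfl

lemma germOf_tu {U : X.Opens} {c : Γ(X, U)} (hc : c ∈ regSub X U) (y : U) :
    germOf (tu hc) y = QuotientGroup.mk (IsLocalization.map_units (KStalk X y.1) (regGerm y ⟨c, hc⟩)).unit := by
  have h1 : uval (tu hc) y = (IsLocalization.map_units (KStalk X y.1) (regGerm y ⟨c, hc⟩)).unit := by
    ext
    rw [uval_val, tu_val, toK_apply']
    rfl
  exact congrArg QuotientGroup.mk h1

lemma ures_tu {U V : X.Opens} (h : V ≤ U) {c : Γ(X, U)} (hc : c ∈ regSub X U) :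
    ures h (tu hc) = tu (ores_mem h hc) := by
  ext
  rw [ures_val, tu_val, tu_val, res_toK]

/-- Over an affine open where `L` is generated by `e` and `s = c • e`, a divisor of `Z(s)` is `div c`. -/
theorem isLoc_of_isDivOfIdeal {L : X.Modules} (hL : PicF.IsInvertible L) {s : Coh.structureModule X ⟶ L}
    {D : Divisor X} (hD : IsDivOfIdeal D (PicF2.zeroScheme L s)) (U : X.affineOpens) {e : Γ(L, U.1)}
    (he : IsGen e) {c : Γ(X, U.1)} (hc : sec s U.1 = c • e) :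
    ∃ h : c ∈ regSub X U.1, IsLoc D U.1 (tu h) := by
  have key : ∀ y : U.1, ∃ (V : X.Opens) (hV : V ≤ U.1) (_ : y.1 ∈ V) (h : ores hV c ∈ regSub X V),
      IsLoc D V (tu h) := by
    intro y
    obtain ⟨U', hy, f, hf, hI, hDf⟩ := hD y.1
    obtain ⟨_, ⟨W, hW, rfl⟩, hyW, hle⟩ :=
      X.isBasis_affineOpens.exists_subset_of_mem_open (⟨y.2, hy⟩ : y.1 ∈ U.1 ⊓ U'.1) (U.1 ⊓ U'.1).2
    have h1 : W ≤ U.1 := fun z hz => (hle hz).1
    have h2 : W ≤ U'.1 := fun z hz => (hle hz).2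
    have e1 : (PicF2.zeroScheme L s).ideal ⟨W, hW⟩ = Ideal.span {ores h1 c} :=
      Groth.Agent.Pi1C.ZeroScheme.ideal_eq_span s hL ⟨W, hW⟩ (he.res h1) (by
        rw [← res_sec s h1, hc, res_smul])
    have e2 : (PicF2.zeroScheme L s).ideal ⟨W, hW⟩ = Ideal.span {ores h2 f} := by
      rw [← (PicF2.zeroScheme L s).map_ideal (U := ⟨W, hW⟩) (V := U') h2, hI, Ideal.map_span,
        Set.image_singleton]
      rfl
    have e3 := e1.symm.trans e2
    obtain ⟨a, ha⟩ := Ideal.mem_span_singleton'.mp (e3 ▸ Ideal.mem_span_singleton_self (ores h1 c))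
    obtain ⟨b, hb⟩ := Ideal.mem_span_singleton'.mp (e3 ▸ Ideal.mem_span_singleton_self (ores h2 f))
    have hfW : ores h2 f ∈ regSub X W := ores_mem h2 hf
    have hba : b * a = 1 := by
      have h4 : (b * a - 1) * ores h2 f = 0 := by
        rw [sub_mul, one_mul, mul_assoc, ha, hb, sub_self]
      exact sub_eq_zero.mp ((mem_nonZeroDivisors_iff_right.mp (regSub_le_nonZeroDivisors W hfW)) _ h4)
    have hreg : ores h1 c ∈ regSub X W := by
      apply mem_regSub_of_mul (b := b)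
      rw [mul_comm, hb]
      exact hfW
    refine ⟨W, h1, hyW, hreg, ?_⟩
    have h5 : IsLoc D W (tu hfW) := by
      rw [← ures_tu h2 hf]
      have h6 : IsLoc D U'.1 (tu hf) := fun z => (hDf z).trans (germOf_tu hf z).symm
      exact h6.res h2
    refine (isLoc_iff h5).mpr ⟨⟨a, b, by rw [mul_comm]; exact hba, hba⟩, ?_⟩
    rw [tu_val, tu_val, ← map_mul, ha]
  have hreg : c ∈ regSub X U.1 := by
    intro y
    obtain ⟨V, hV, hy, h, -⟩ := key y
    have := h ⟨y.1, hy⟩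
    change og _ _ ∈ _ at this
    rw [og_ores] at this
    exact this
  refine ⟨hreg, fun y => ?_⟩
  obtain ⟨V, hV, hy, h, h'⟩ := key y
  rw [h' ⟨y.1, hy⟩, ← ures_tu hV hreg]
  rfl

theorem isDivOfIdeal_of_local {L : X.Modules} (hL : PicF.IsInvertible L) (s : Coh.structureModule X ⟶ L)
    (D : Divisor X) (h : ∀ x : X, ∃ (U : X.affineOpens) (_ : x ∈ U.1) (e : Γ(L, U.1)) (_ : IsGen e)
      (c : Γ(X, U.1)) (hc : c ∈ regSub X U.1), sec s U.1 = c • e ∧ IsLoc D U.1 (tu hc)) :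
    IsDivOfIdeal D (PicF2.zeroScheme L s) := by
  intro x
  obtain ⟨U, hx, e, he, c, hc, hs, hD⟩ := h x
  exact ⟨U, hx, c, hc, Groth.Agent.Pi1C.ZeroScheme.ideal_eq_span s hL U he hs,
    fun y => (hD y).trans (germOf_tu hc y)⟩

/-- `s₁ ⊗ s₂`. -/
theorem isDivOfIdeal_mul {L₁ L₂ : X.Modules} (hL₁ : PicF.IsInvertible L₁) (hL₂ : PicF.IsInvertible L₂)
    (s₁ : Coh.structureModule X ⟶ L₁) (s₂ : Coh.structureModule X ⟶ L₂)
    (D₁ D₂ : Divisor X) (hD₁ : IsDivOfIdeal D₁ (PicF2.zeroScheme L₁ s₁))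
    (hD₂ : IsDivOfIdeal D₂ (PicF2.zeroScheme L₂ s₂)) :
    IsDivOfIdeal (D₁ * D₂) (PicF2.zeroScheme (CohB1.tensorMod L₁ L₂) (SecTwist.tmulHom s₁ s₂)) := by
  have hloc : ∀ x : X, ∃ (U : X.affineOpens) (_ : x ∈ U.1) (e₁ : Γ(L₁, U.1)) (e₂ : Γ(L₂, U.1)),
      IsGen e₁ ∧ IsGen e₂ := by
    intro x
    obtain ⟨V, e₁, hxV, he₁⟩ := (isInvertible_iff L₁).mp hL₁ x
    obtain ⟨U, hU, hx, hUV, e₂, he₂⟩ :=
      Groth.Agent.Pi1C.ZeroScheme.exists_affine_isGen hL₂ V x hxV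
    exact ⟨⟨U, hU⟩, hx, res L₁ hUV e₁, e₂, he₁.res hUV, he₂⟩
  have hT : PicF.IsInvertible (CohB1.tensorMod L₁ L₂) := by
    rw [isInvertible_iff]
    intro x
    obtain ⟨U, hx, e₁, e₂, he₁, he₂⟩ := hloc x
    exact ⟨U.1, tmul e₁ e₂, hx, he₁.tmul he₂⟩
  refine isDivOfIdeal_of_local hT _ _ fun x => ?_
  obtain ⟨U, hx, e₁, e₂, he₁, he₂⟩ := hloc x
  obtain ⟨c₁, h1⟩ := he₁.exists_eq (sec s₁ U.1)
  obtain ⟨c₂, h2⟩ := he₂.exists_eq (sec s₂ U.1)
  obtain ⟨hc₁, hl₁⟩ := isLoc_of_isDivOfIdeal hL₁ hD₁ U he₁ h1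
  obtain ⟨hc₂, hl₂⟩ := isLoc_of_isDivOfIdeal hL₂ hD₂ U he₂ h2
  refine ⟨U, hx, tmul e₁ e₂, he₁.tmul he₂, c₁ * c₂, mul_mem hc₁ hc₂, ?_, ?_⟩
  · have h3 : sec (SecTwist.tmulHom s₁ s₂) U.1 = tmul (sec s₁ U.1) (sec s₂ U.1) :=
      SecTwist.val_tmulHom s₁ s₂ U.1
    rw [h3, h1, h2, smul_tmul, tmul_smul, smul_smul]
  · have h4 : tu (mul_mem hc₁ hc₂) = tu hc₁ * tu hc₂ := by
      ext
      rw [Units.val_mul, tu_val, tu_val, tu_val, map_mul]
    rw [h4]
    exact hl₁.mul hl₂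

/-- A section `1` of `O_X(D)` for `D` effective. -/
theorem exists_section_of_effective {L : X.Modules} (hL : PicF.IsInvertible L) (D : Divisor X)
    (hD : IsEffective D) (e : L ≅ divMod D) :
    ∃ s : Coh.structureModule X ⟶ L, IsDivOfIdeal D (PicF2.zeroScheme L s) ∧
      ∀ x : X, ∃ (U : X.affineOpens) (_ : x ∈ U.1) (e : Γ(L, U.1)) (_ : IsGen e)
        (c : Γ(X, U.1)) (hc : c ∈ regSub X U.1), sec s U.1 = c • e ∧ IsLoc D U.1 (tu hc) := by
  have h1 : ∀ x : (⊤ : X.Opens), DivCond D x.1 ((1 : Γ(kmod X, ⊤)).1 x) := by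
    intro x
    obtain ⟨a, ha⟩ := hD x.1
    rw [divCond_iff D ha]
    exact ⟨a.1, by rw [kmod_one_apply, one_mul]; rfl⟩
  have hloc : ∀ x : X, ∃ (U : X.affineOpens) (_ : x ∈ U.1) (c : Γ(X, U.1)) (hc : c ∈ regSub X U.1),
      IsLoc D U.1 (tu hc) := by
    intro x
    obtain ⟨U, hx, f, hf⟩ := exists_local D x
    have h2 : ∀ y : U, (f : Γ(kmod X, U)).1 y ∈ O X y.1 := by
      intro y
      have := (divCond_iff D (hf y) (1 : KStalk X y.1)).mp (h1 ⟨y.1, trivial⟩)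
      rw [one_mul] at this
      exact this
    obtain ⟨c, hc⟩ := exists_toK_eq _ h2
    have hcr : ∃ (V : X.Opens) (hV : V ≤ U), x ∈ V ∧ ores hV c ∈ regSub X V :=
      mem_regSub_near ⟨x, hx⟩ (by rw [← hc]; exact (isUnit_iff _).mp f.isUnit ⟨x, hx⟩)
    obtain ⟨V, hV, hxV, hcV⟩ := hcr
    obtain ⟨_, ⟨W, hW, rfl⟩, hxW, hle⟩ := X.isBasis_affineOpens.exists_subset_of_mem_open hxV V.2
    have hle' : W ≤ V := hle
    refine ⟨⟨W, hW⟩, hxW, ores (hle'.trans hV) c, ?_, ?_⟩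
    · rw [← ores_ores hV hle']; exact ores_mem hle' hcV
    · have h5 : ures (hle'.trans hV) f = tu (c := ores (hle'.trans hV) c)
          (by rw [← ores_ores hV hle']; exact ores_mem hle' hcV) := by
        ext
        rw [ures_val, tu_val, hc, res_toK]
      rw [← h5]
      exact hf.res _
  let s : Coh.structureModule X ⟶ L := homOf (e.inv.app ⊤ (mkSec D 1 h1))
  have hs : ∀ x : X, ∃ (U : X.affineOpens) (_ : x ∈ U.1) (e : Γ(L, U.1)) (_ : IsGen e)
      (c : Γ(X, U.1)) (hc : c ∈ regSub X U.1), sec s U.1 = c • e ∧ IsLoc D U.1 (tu hc) := by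
    intro x
    obtain ⟨U, hx, c, hc, hf⟩ := hloc x
    refine ⟨U, hx, e.inv.app U.1 (K149.Div.gen hf), (isGen_gen hf).app e.inv, c, hc, ?_, hf⟩
    rw [sec_homOf, ← app_res, ← Scheme.Modules.Hom.app_smul]
    congr 1
    apply divModι_injective
    rw [divModι_smul, divModι_gen]
    change (1 : Γ(kmod X, U.1)) = _
    rw [← tu_val hc, Units.mul_inv]
  exact ⟨s, isDivOfIdeal_of_local hL s D hs, hs⟩

/-- On an integral scheme the coefficients of a nonzero section are regular. -/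
theorem mem_regSub_of_ne_zero [IsIntegral X] {U : X.Opens} {c : Γ(X, U)} (hc : c ≠ 0) :
    c ∈ regSub X U := by
  intro y
  change og y c ∈ _
  have hd : IsDomain (X.presheaf.stalk y.1) := inferInstance
  rw [mem_nonZeroDivisors_iff_ne_zero]
  intro h
  apply hc
  have : Nonempty U := ⟨y⟩
  exact AlgebraicGeometry.germ_injective_of_isIntegral X y.1 y.2 (h.trans (map_zero _).symm)

theorem ne_zero_of_section [IsIntegral X] {L : X.Modules} (hL : PicF.IsInvertible L)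
    {s : Coh.structureModule X ⟶ L} (hs : s ≠ 0) {U : X.Opens} (hU : Nonempty U) {e : Γ(L, U)}
    {c : Γ(X, U)} (hc : sec s U = c • e) : c ≠ 0 := by
  rintro rfl
  apply hs
  rw [zero_smul] at hc
  apply hom_ext_sec
  have h0 : sec (0 : Coh.structureModule X ⟶ L) ⊤ = 0 := rfl
  rw [h0]
  choose V e' hx he' using (isInvertible_iff L).mp hL
  refine res_ext L V (fun _ => le_top) (fun x _ => Opens.mem_iSup.mpr ⟨x, hx x⟩) fun x => ?_
  rw [res_sec, map_zero]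
  obtain ⟨c', hc'⟩ := (he' x).exists_eq (sec s (V x))
  have h1 : ores (inf_le_right : U ⊓ V x ≤ V x) c' = 0 := by
    apply ((he' x).res inf_le_right).ext
    rw [← res_smul, ← hc', res_sec, ← res_sec s (inf_le_left : U ⊓ V x ≤ U), hc, map_zero, zero_smul]
  have hne : Nonempty (U ⊓ V x : X.Opens) := by
    obtain ⟨y, hy⟩ := nonempty_preirreducible_inter U.2 (V x).2 ⟨hU.some.1, hU.some.2⟩ ⟨x, hx x⟩
    exact ⟨⟨y, hy⟩⟩
  have h2 : c' = 0 := by
    have h3 : og ⟨hne.some.1, hne.some.2.2⟩ c' = og ⟨hne.some.1, hne.some.2.2⟩ 0 := by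
      rw [← og_ores (inf_le_right : U ⊓ V x ≤ V x) hne.some, h1, map_zero, map_zero]
    exact AlgebraicGeometry.germ_injective_of_isIntegral X hne.some.1 hne.some.2.2 h3
  rw [hc', h2, zero_smul]

theorem exists_divisor_of_section [IsIntegral X] {L : X.Modules} (hL : PicF.IsInvertible L)
    {s : Coh.structureModule X ⟶ L} (hs : s ≠ 0) :
    ∃ D : Divisor X, IsDivOfIdeal D (PicF2.zeroScheme L s) ∧
      ∃ e : L ≅ divMod D, (divModι D).app ⊤ (e.hom.app ⊤ (sec s ⊤)) = 1 := by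
  have hch : ∀ (U : X.Opens) (_ : Nonempty U) (e : Γ(L, U)) (_ : IsGen e) (c : Γ(X, U))
      (_ : sec s U = c • e), ∃ hc : c ∈ regSub X U, IsChart (kmul 1 (sec s ⊤)) U e (tu hc) := by
    intro U hU e he c hc
    refine ⟨mem_regSub_of_ne_zero (ne_zero_of_section hL hs hU hc), he, ?_⟩
    rw [res_kmul, res_sec, hc, kmul_smul, res_one', mul_one, tu_val]
  have hs' : ∀ x : X, ∃ (U : X.Opens) (e : Γ(L, U)) (f : (Γ(kmod X, U))ˣ), x ∈ U ∧
      IsChart (kmul 1 (sec s ⊤)) U e f := by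
    intro x
    obtain ⟨U, e, hx, he⟩ := (isInvertible_iff L).mp hL x
    obtain ⟨c, hc⟩ := he.exists_eq (sec s U)
    obtain ⟨h1, h2⟩ := hch U ⟨⟨x, hx⟩⟩ e he c hc
    exact ⟨U, e, _, hx, h2⟩
  obtain ⟨D, hD⟩ := exists_divisor hs'
  obtain ⟨φ, hφ⟩ := exists_iso hs' hD
  refine ⟨D, isDivOfIdeal_of_local hL s D fun x => ?_, φ, kext fun x => ?_⟩
  · obtain ⟨U, hU, hx, -, e, he⟩ := Groth.Agent.Pi1C.ZeroScheme.exists_affine_isGen hL ⊤ x trivial
    obtain ⟨c, hc⟩ := he.exists_eq (sec s U)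
    obtain ⟨h1, h2⟩ := hch U ⟨⟨x, hx⟩⟩ e he c hc
    exact ⟨⟨U, hU⟩, hx, e, he, c, h1, hc, hD _ _ _ h2⟩
  · obtain ⟨U, e, f, hx, hc⟩ := hs' x.1
    have h1 := hφ ⊤ (sec s ⊤) x
    have h2 : (kmul 1 (sec s ⊤)).1 x = (f : Γ(kmod X, U)).1 ⟨x.1, hx⟩ • mq L ⟨x.1, hx⟩ e := by
      rw [← kmul_apply, ← hc.eq]; rfl
    have h3 : (kmul 1 (sec s ⊤)).1 x = mq L x (sec s ⊤) := by
      rw [kmul_apply, kmod_one_apply, one_smul]
    change (φ.hom.app ⊤ (sec s ⊤)).1 x • (kmul 1 (sec s ⊤)).1 x = _ at h1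
    rw [← h3, h2, smul_smul] at h1
    have h4 := mq_gen_ext hc.gen ⟨x.1, hx⟩ h1
    have h5 : (φ.hom.app ⊤ (sec s ⊤)).1 x = 1 := by
      have h6 := (isUnit_iff _).mp f.isUnit ⟨x.1, hx⟩
      exact h6.mul_right_cancel (h4.trans (one_mul _).symm)
    exact h5

end K149.ZeroSch
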