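import Groth.Agent.Mero.K149.Basic
import Mathlib.AlgebraicGeometry.Noetherian
import Mathlib.AlgebraicGeometry.Morphisms.QuasiSeparated

/-!
# Regular sections on affine opens; schematically dense opens

* `regSub_eq` : regular sections on an affine open are the nonzerodivisors.
* `SDense V U` : `V` is schematically dense in `U`; `sdense_basicOpen`, `kres_injective`, `exists_sdense_domain`.
* `regStalk_eq` : `S_x` is all of the nonzerodivisors when `X` is locally Noetherian.
-/

set_option autoImplicit false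
universe u

open CategoryTheory CategoryTheory.Limits AlgebraicGeometry Opposite TopologicalSpace
open Groth.Agent.Fdesc.LocGen

namespace K149.Affine

open Mero K149.Basic

variable {X : Scheme.{u}}

lemma germ_mem_nonZeroDivisors {U : X.Opens} (hU : IsAffineOpen U) {b : Γ(X, U)}
    (hb : b ∈ nonZeroDivisors Γ(X, U)) : b ∈ regSub X U := by
  intro x
  let := X.presheaf.algebra_section_stalk x
  have := hU.isLocalization_stalk x
  exact IsLocalization.nonZeroDivisors_le_comap (hU.primeIdealOf x).asIdeal.primeCompl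
    (X.presheaf.stalk x.1) hb

theorem regSub_eq {U : X.Opens} (hU : IsAffineOpen U) : regSub X U = nonZeroDivisors Γ(X, U) :=
  le_antisymm (regSub_le_nonZeroDivisors U) fun _ hb => germ_mem_nonZeroDivisors hU hb

lemma exists_affine_le {U : X.Opens} {x : X} (hx : x ∈ U) :
    ∃ V : X.Opens, IsAffineOpen V ∧ x ∈ V ∧ V ≤ U := by
  obtain ⟨_, ⟨V', hV', rfl⟩, hxV', hle⟩ :=
    X.isBasis_affineOpens.exists_subset_of_mem_open hx U.2
  exact ⟨V', hV', hxV', hle⟩

/-- On an affine open, a function vanishing on `D(b)`, `b` regular, is zero. -/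
lemma eq_zero_of_basicOpen {U : X.Opens} (hU : IsAffineOpen U) {b : Γ(X, U)} (hb : b ∈ regSub X U)
    {a : Γ(X, U)} (ha : ores (X.basicOpen_le b) a = 0) : a = 0 := by
  obtain ⟨n, hn⟩ := exists_pow_mul_eq_zero_of_res_basicOpen_eq_zero_of_isAffineOpen X hU a b ha
  have h1 : b ^ n ∈ nonZeroDivisors Γ(X, U) := pow_mem (regSub_le_nonZeroDivisors U hb) n
  exact (mem_nonZeroDivisors_iff_right.mp h1) a (by rw [mul_comm]; exact hn)

/-- `V` is schematically dense in `U` (for `V ≤ U`). -/
def SDense (V U : X.Opens) : Prop :=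
  ∀ W : X.Opens, W ≤ U → Function.Injective (ores (inf_le_left : W ⊓ V ≤ W))

lemma sdense_iff {V U : X.Opens} : SDense V U ↔
    ∀ W : X.Opens, W ≤ U → ∀ a : Γ(X, W), ores (inf_le_left : W ⊓ V ≤ W) a = 0 → a = 0 := by
  refine forall_congr' fun W => forall_congr' fun _ => ?_
  rw [injective_iff_map_eq_zero]

lemma SDense.eq_zero {V U : X.Opens} (h : SDense V U) {W : X.Opens} (hW : W ≤ U) {a : Γ(X, W)}
    (ha : ores (inf_le_left : W ⊓ V ≤ W) a = 0) : a = 0 := sdense_iff.mp h W hW a ha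

lemma SDense.mono_left {V V' U : X.Opens} (h : SDense V U) (hV : V ≤ V') : SDense V' U := by
  rw [sdense_iff] at h ⊢
  intro W hW a ha
  refine h W hW a ?_
  have := congrArg (ores (inf_le_inf le_rfl hV : W ⊓ V ≤ W ⊓ V')) ha
  simpa using this

lemma SDense.mono_right {V U U' : X.Opens} (h : SDense V U) (hU : U' ≤ U) : SDense V U' :=
  fun W hW => h W (hW.trans hU)

lemma SDense.inf {V U W : X.Opens} (h : SDense V U) (hW : W ≤ U) : SDense (W ⊓ V) W := by
  rw [sdense_iff] at h ⊢
  intro W' hW' a ha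
  refine h W' (hW'.trans hW) a ?_
  have := congrArg (ores (le_inf inf_le_left (le_inf (inf_le_left.trans hW') inf_le_right) :
    W' ⊓ V ≤ W' ⊓ (W ⊓ V))) ha
  simpa using this

/-- Local nature of schematic density. -/
lemma SDense.of_local {V U : X.Opens}
    (h : ∀ x ∈ U, ∃ W : X.Opens, W ≤ U ∧ x ∈ W ∧ SDense V W) : SDense V U := by
  rw [sdense_iff]
  intro W hW a ha
  refine oext fun x => ?_
  obtain ⟨W', hW'U, hxW', hd⟩ := h x.1 (hW x.2)
  have h1 : ores (inf_le_left : W ⊓ W' ≤ W) a = 0 := by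
    refine hd.eq_zero inf_le_right ?_
    have := congrArg (ores (inf_le_inf inf_le_left le_rfl : (W ⊓ W') ⊓ V ≤ W ⊓ V)) ha
    simpa using this
  have h2 := congrArg (og (U := W ⊓ W') ⟨x.1, ⟨x.2, hxW'⟩⟩) h1
  rw [og_ores inf_le_left, map_zero] at h2
  rw [map_zero]; exact h2

/-- The complement of the zeros of a regular section is schematically dense. -/
lemma sdense_basicOpen {U : X.Opens} {b : Γ(X, U)} (hb : b ∈ regSub X U) :
    SDense (X.basicOpen b) U := by
  refine SDense.of_local fun x hx => ?_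
  obtain ⟨V, hV, hxV, hVU⟩ := exists_affine_le hx
  refine ⟨V, hVU, hxV, ?_⟩
  rw [sdense_iff]
  intro W hW a ha
  refine oext fun y => ?_
  obtain ⟨V', hV', hyV', hV'W⟩ := exists_affine_le y.2
  have hV'U : V' ≤ U := hV'W.trans (hW.trans hVU)
  have h1 : ores hV'W a = 0 := by
    refine eq_zero_of_basicOpen hV' (ores_mem hV'U hb) ?_
    have hle : X.basicOpen (ores hV'U b) ≤ W ⊓ X.basicOpen b := by
      have : X.basicOpen (ores hV'U b) = V' ⊓ X.basicOpen b := Scheme.basicOpen_res X b (homOfLE hV'U).op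
      rw [this]; exact inf_le_inf hV'W le_rfl
    have := congrArg (ores hle) ha
    simpa using this
  have h2 := congrArg (og ⟨y.1, hyV'⟩) h1
  rw [og_ores hV'W, map_zero] at h2
  rw [map_zero]; exact h2

/-- Meromorphic functions are determined on a schematically dense open. -/
theorem kmod_eq_zero {U V : X.Opens} (hVU : V ≤ U) (hV : SDense V U) {s : Γ(kmod X, U)}
    (h : res (kmod X) hVU s = 0) : s = 0 := by
  refine kext fun x => ?_
  obtain ⟨W, hW, -, hx, a, b, hab⟩ := exists_frac s x U x.2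
  have ha : a = 0 := by
    refine hV.eq_zero hW ?_
    apply toK_injective
    rw [map_zero, ← res_toK, ← frac_mul_toK a b, ← hab, res_mul, res_res,
      ← res_res (kmod X) hVU (inf_le_right : W ⊓ V ≤ V), h, map_zero, zero_mul]
  have h1 : res (kmod X) hW s = 0 := by
    rw [hab, ha]
    symm; rw [eq_frac_iff, zero_mul, map_zero]
  exact congrFun (congrArg Subtype.val h1) ⟨x.1, hx⟩

theorem kmod_injective {U V : X.Opens} (hVU : V ≤ U) (hV : SDense V U) :
    Function.Injective (res (kmod X) hVU) :=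
  (injective_iff_map_eq_zero _).mpr fun _ h => kmod_eq_zero hVU hV h

/-- The domain of definition of a meromorphic function is a schematically dense open. -/
theorem exists_domain {U : X.Opens} (f : Γ(kmod X, U)) :
    ∃ D : X.Opens, D ≤ U ∧
      (∀ x : U, x.1 ∈ D ↔ f.1 x ∈ (algebraMap (X.presheaf.stalk x.1) (KStalk X x.1)).range) ∧
      SDense D U := by
  let D : X.Opens := sSup {V : X.Opens | ∃ (hV : V ≤ U) (r : Γ(X, V)), res (kmod X) hV f = toK X V r}
  have hD : D ≤ U := sSup_le fun V ⟨hV, _⟩ => hV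
  refine ⟨D, hD, fun x => ⟨fun hx => ?_, fun hx => ?_⟩, SDense.of_local fun x hx => ?_⟩
  · obtain ⟨V, ⟨hV, r, hr⟩, hxV⟩ := Opens.mem_sSup.mp hx
    exact ⟨og ⟨x.1, hxV⟩ r, (congrFun (congrArg Subtype.val hr) ⟨x.1, hxV⟩).symm⟩
  · obtain ⟨V, hV, hxV, r, hr⟩ := exists_toK_near f x hx
    exact Opens.mem_sSup.mpr ⟨V, ⟨hV, r, hr⟩, hxV⟩
  · obtain ⟨V, hV, -, hxV, a, b, hab⟩ := exists_frac f ⟨x, hx⟩ U hx
    refine ⟨V, hV, hxV, (sdense_basicOpen b.2).mono_left ?_⟩
    refine le_sSup ⟨(X.basicOpen_le _).trans hV, ?_⟩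
    have hu : IsUnit (ores (X.basicOpen_le b.1) b.1) := X.toRingedSpace.isUnit_res_basicOpen b.1
    obtain ⟨v, hv⟩ := hu.exists_right_inv
    refine ⟨ores (X.basicOpen_le b.1) a * v, ?_⟩
    rw [← res_res (kmod X) hV (X.basicOpen_le b.1), hab, res_frac]
    symm; rw [eq_frac_iff, ← map_mul, mul_assoc, mul_comm v, hv, mul_one]

/-! ### Locally Noetherian schemes -/

lemma isNoetherianRing_of_isAffineOpen [IsLocallyNoetherian X] {U : X.Opens} (hU : IsAffineOpen U) :
    IsNoetherianRing Γ(X, U) :=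
  IsLocallyNoetherian.component_noetherian ⟨U, hU⟩

/-- A function with nonzerodivisor germ at `x` is regular near `x` (annihilator finitely generated). -/
lemma mem_regSub_near_of_fg {U : X.Opens} (hU : IsAffineOpen U) (x : U) {b : Γ(X, U)}
    (hfg : (Ideal.span {b} : Ideal Γ(X, U)).annihilator.FG)
    (hb : og x b ∈ nonZeroDivisors (X.presheaf.stalk x.1)) :
    ∃ (V : X.Opens) (_ : IsAffineOpen V) (hV : V ≤ U), x.1 ∈ V ∧ ores hV b ∈ regSub X V := by
  obtain ⟨s, hs⟩ := hfg
  have key : ∀ a ∈ s, ∃ c : Γ(X, U), x.1 ∈ X.basicOpen c ∧ c * a = 0 := by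
    intro a ha
    have hab : a * b = 0 := by
      have : a ∈ (Ideal.span {b} : Ideal Γ(X, U)).annihilator := hs ▸ Submodule.subset_span ha
      rw [Submodule.mem_annihilator_span_singleton] at this
      exact this
    have h0 : og x a = 0 := (mem_nonZeroDivisors_iff_right.mp hb) _ (by rw [← map_mul, hab, map_zero])
    let := X.presheaf.algebra_section_stalk x
    have := hU.isLocalization_stalk x
    have h1 : algebraMap Γ(X, U) (X.presheaf.stalk x.1) a = 0 := h0
    rw [IsLocalization.map_eq_zero_iff (hU.primeIdealOf x).asIdeal.primeCompl] at h1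
    obtain ⟨⟨c, hc⟩, hca⟩ := h1
    refine ⟨c, ?_, hca⟩
    rw [Scheme.mem_basicOpen _ _ _ x.2]
    exact IsLocalization.map_units (M := (hU.primeIdealOf x).asIdeal.primeCompl) (X.presheaf.stalk x.1) ⟨c, hc⟩
  choose! c hc hca using key
  let d : Γ(X, U) := ∏ a ∈ s, c a
  have hd : x.1 ∈ X.basicOpen d := by
    rw [Scheme.mem_basicOpen _ _ _ x.2]
    change IsUnit (og x (∏ a ∈ s, c a))
    rw [map_prod, IsUnit.prod_iff]
    intro a ha
    have := hc a ha
    rwa [Scheme.mem_basicOpen _ _ _ x.2] at this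
  have hda : ∀ a : Γ(X, U), a * b = 0 → d * a = 0 := by
    intro a ha
    have h1 : a ∈ (Ideal.span {b} : Ideal Γ(X, U)).annihilator := by
      rw [Submodule.mem_annihilator_span_singleton]; exact ha
    rw [← hs] at h1
    refine Submodule.span_induction (fun t ht => ?_) (mul_zero _) (fun _ _ _ _ h h' => ?_)
      (fun r _ _ h => ?_) h1
    · obtain ⟨e, he⟩ := Finset.dvd_prod_of_mem c ht
      change (∏ a ∈ s, c a) * t = 0
      rw [he, mul_right_comm, hca t ht, zero_mul]
    · rw [mul_add, h, h', add_zero]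
    · rw [smul_eq_mul, mul_left_comm, h, mul_zero]
  refine ⟨X.basicOpen d, hU.basicOpen d, X.basicOpen_le d, hd, ?_⟩
  rw [regSub_eq (hU.basicOpen d), mem_nonZeroDivisors_iff_right]
  intro a ha
  have := hU.isLocalization_basicOpen d
  let := (X.presheaf.map (homOfLE (X.basicOpen_le d)).op).hom.toAlgebra
  obtain ⟨⟨a', ⟨_, n, rfl⟩⟩, he⟩ := IsLocalization.surj (Submonoid.powers d) a
  have he' : a * ores (X.basicOpen_le d) (d ^ n) = ores (X.basicOpen_le d) a' := he
  have h1 : ores (X.basicOpen_le d) (a' * b) = 0 := by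
    rw [map_mul, ← he', mul_right_comm, ha, zero_mul]
  have h2 : ∃ m : ℕ, d ^ m * (a' * b) = 0 := by
    have h3 : algebraMap Γ(X, U) Γ(X, X.basicOpen d) (a' * b) = 0 := h1
    rw [IsLocalization.map_eq_zero_iff (Submonoid.powers d)] at h3
    obtain ⟨⟨_, m, rfl⟩, hm⟩ := h3
    exact ⟨m, hm⟩
  obtain ⟨m, hm⟩ := h2
  have h3 : d * (d ^ m * a') = 0 := hda _ (by rw [← hm]; ring)
  have hud : IsUnit (ores (X.basicOpen_le d) d) := X.toRingedSpace.isUnit_res_basicOpen d
  have h4 := congrArg (ores (X.basicOpen_le d)) h3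
  rw [map_mul, map_mul, map_zero, map_pow, ← mul_assoc, ← pow_succ'] at h4
  rw [(hud.pow (m + 1)).mul_right_eq_zero, ← he', map_pow] at h4
  exact (hud.pow n).mul_left_eq_zero.mp h4

lemma mem_regSub_near_of_germ [IsLocallyNoetherian X] {U : X.Opens} (x : U) {b : Γ(X, U)}
    (hb : og x b ∈ nonZeroDivisors (X.presheaf.stalk x.1)) :
    ∃ (V : X.Opens) (_ : IsAffineOpen V) (hV : V ≤ U), x.1 ∈ V ∧ ores hV b ∈ regSub X V := by
  obtain ⟨W, hW, hxW, hWU⟩ := exists_affine_le x.2
  have := isNoetherianRing_of_isAffineOpen hW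
  obtain ⟨V, hV, hVW, hx, h⟩ := mem_regSub_near_of_fg hW ⟨x.1, hxW⟩ (b := ores hWU b)
    (IsNoetherian.noetherian _) (by rw [og_ores hWU]; exact hb)
  exact ⟨V, hV, hVW.trans hWU, hx, by rwa [ores_ores] at h⟩

/-- `S_x` is the set of all nonzerodivisors when `X` is locally Noetherian. -/
theorem regStalk_eq [IsLocallyNoetherian X] (x : X) :
    regStalk X x = nonZeroDivisors (X.presheaf.stalk x) := by
  refine le_antisymm (regStalk_le_nonZeroDivisors x) fun t ht => ?_
  obtain ⟨V, -, hV, a, rfl⟩ := germ_exists t ⊤ trivial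
  obtain ⟨W, -, hW, hxW, h⟩ := mem_regSub_near_of_germ ⟨x, hV⟩ ht
  exact ⟨W, hxW, ores hW a, h, og_ores hW ⟨x, hxW⟩ a⟩

end K149.Affine
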