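import Mathlib.AlgebraicGeometry.Properties
import Mathlib.AlgebraicGeometry.AffineScheme
import Mathlib.AlgebraicGeometry.Noetherian
import Mathlib.Topology.Sober
import Mathlib.RingTheory.Ideal.AssociatedPrime.Finiteness
import Mathlib.RingTheory.Ideal.MinimalPrime.Basic

/-!
# Maximal points of a scheme and rings with finitely many "associated primes"

* `IsMaxPt x`: no proper generization; `isMaxPt_iff`, `exists_maxPt`, `isMaxPt_fromSpec_iff`,
  `finite_maxPt` (locally finite components), `finite_minimalPrimes`.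
* `FinAss A` : the zero divisors of `A` lie in finitely many primes, each killed by a nonzero element;
  `finAss_of_noeth`, `finAss_of_reduced`, `FinAss.exists_mem` (avoidance).
-/

set_option autoImplicit false
universe u

open CategoryTheory AlgebraicGeometry TopologicalSpace

namespace K149.MaxPt

/-- A point without proper generization. -/
def IsMaxPt {X : Scheme.{u}} (x : X) : Prop := ∀ z : X, z ⤳ x → z = x

variable {X : Scheme.{u}}

lemma isMaxPt_iff (x : X) : IsMaxPt x ↔ closure ({x} : Set X) ∈ irreducibleComponents X := by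
  constructor
  · intro hx
    refine ⟨isIrreducible_singleton.closure, fun Z hZ hle => ?_⟩
    obtain ⟨z, hz⟩ := QuasiSober.sober (hZ : IsIrreducible Z).closure isClosed_closure
    have hzx : z ⤳ x := by
      rw [specializes_iff_mem_closure, hz.def]
      exact subset_closure (hle (subset_closure rfl))
    obtain rfl := hx z hzx
    rw [hz.def]
    exact subset_closure
  · intro hx z hz
    have h1 : closure ({x} : Set X) ⊆ closure {z} :=
      closure_minimal (Set.singleton_subset_iff.mpr (specializes_iff_mem_closure.mp hz)) isClosed_closure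
    have h2 := hx.2 (isIrreducible_singleton (x := z)).closure h1
    have h3 : x ⤳ z := specializes_iff_mem_closure.mpr (h2 (subset_closure rfl))
    exact (h3.antisymm hz).eq.symm

lemma exists_maxPt (x : X) : ∃ ξ : X, ξ ⤳ x ∧ IsMaxPt ξ := by
  obtain ⟨m, hm⟩ := QuasiSober.sober (isIrreducible_irreducibleComponent (x := x))
    isClosed_irreducibleComponent
  refine ⟨m, hm.specializes mem_irreducibleComponent, (isMaxPt_iff m).mpr ?_⟩
  rw [hm.def]
  exact irreducibleComponent_mem_irreducibleComponents x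

lemma fromSpec_specializes_iff {V : X.Opens} (hV : IsAffineOpen V) (p q : PrimeSpectrum Γ(X, V)) :
    hV.fromSpec p ⤳ hV.fromSpec q ↔ p ≤ q := by
  rw [PrimeSpectrum.le_iff_specializes]
  exact hV.fromSpec.isOpenEmbedding.isInducing.specializes_iff

lemma fromSpec_injective {V : X.Opens} (hV : IsAffineOpen V) : Function.Injective hV.fromSpec :=
  hV.fromSpec.isOpenEmbedding.injective

lemma fromSpec_mem {V : X.Opens} (hV : IsAffineOpen V) (p : PrimeSpectrum Γ(X, V)) :
    hV.fromSpec p ∈ V := by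
  have h : hV.fromSpec p ∈ Set.range hV.fromSpec := ⟨p, rfl⟩
  rw [hV.range_fromSpec] at h
  exact h

lemma primeIdealOf_le_iff {V : X.Opens} (hV : IsAffineOpen V) (x y : V) :
    (hV.primeIdealOf x) ≤ (hV.primeIdealOf y) ↔ x.1 ⤳ y.1 := by
  rw [← fromSpec_specializes_iff hV, hV.fromSpec_primeIdealOf, hV.fromSpec_primeIdealOf]

lemma isMaxPt_fromSpec_iff {V : X.Opens} (hV : IsAffineOpen V) (p : PrimeSpectrum Γ(X, V)) :
    IsMaxPt (hV.fromSpec p) ↔ p.asIdeal ∈ minimalPrimes Γ(X, V) := by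
  constructor
  · intro h
    refine ⟨⟨p.2, bot_le⟩, fun q ⟨hq, _⟩ hle => ?_⟩
    have h1 : hV.fromSpec ⟨q, hq⟩ ⤳ hV.fromSpec p := (fromSpec_specializes_iff hV _ _).mpr hle
    have h2 := fromSpec_injective hV (h _ h1)
    exact (congrArg PrimeSpectrum.asIdeal h2).ge
  · intro h z hz
    have hzV : z ∈ V := hz.mem_open V.2 (fromSpec_mem hV p)
    obtain ⟨q, hq⟩ : ∃ q : PrimeSpectrum Γ(X, V), hV.fromSpec q = z :=
      ⟨_, hV.fromSpec_primeIdealOf ⟨z, hzV⟩⟩
    subst hq
    rw [fromSpec_specializes_iff] at hz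
    exact congrArg _ (le_antisymm hz (h.2 ⟨q.2, bot_le⟩ hz))

lemma isMaxPt_iff_primeIdealOf {V : X.Opens} (hV : IsAffineOpen V) (x : V) :
    IsMaxPt x.1 ↔ (hV.primeIdealOf x).asIdeal ∈ minimalPrimes Γ(X, V) := by
  rw [← isMaxPt_fromSpec_iff hV, hV.fromSpec_primeIdealOf]

lemma finite_maxPt {W : X.Opens}
    (h : {Z : Set X | Z ∈ irreducibleComponents X ∧ (Z ∩ (W : Set X)).Nonempty}.Finite) :
    {x : X | IsMaxPt x ∧ x ∈ W}.Finite := by
  refine Set.Finite.of_finite_image (f := fun x => closure ({x} : Set X)) (h.subset ?_) ?_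
  · rintro _ ⟨x, ⟨hx, hxW⟩, rfl⟩
    exact ⟨(isMaxPt_iff x).mp hx, x, subset_closure rfl, hxW⟩
  · intro x _ y _ hxy
    have hxy' : closure ({x} : Set X) = closure {y} := hxy
    have h1 : x ⤳ y := specializes_iff_mem_closure.mpr (hxy'.symm ▸ subset_closure rfl)
    have h2 : y ⤳ x := specializes_iff_mem_closure.mpr (hxy' ▸ subset_closure rfl)
    exact (h1.antisymm h2).eq

lemma finite_minimalPrimes {V : X.Opens} (hV : IsAffineOpen V)
    (h : {x : X | IsMaxPt x ∧ x ∈ V}.Finite) : (minimalPrimes Γ(X, V)).Finite := by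
  have h1 : Set.Finite (hV.fromSpec ⁻¹' {x : X | IsMaxPt x ∧ x ∈ V}) :=
    h.preimage (fromSpec_injective hV).injOn
  refine (h1.image PrimeSpectrum.asIdeal).subset ?_
  intro p hp
  exact ⟨⟨p, hp.1.1⟩, ⟨(isMaxPt_fromSpec_iff hV ⟨p, hp.1.1⟩).mpr hp, fromSpec_mem hV _⟩, rfl⟩

/-- The zero divisors lie in finitely many primes, each killed by a nonzero element. -/
def FinAss (A : Type u) [CommRing A] : Prop :=
  ∃ P : Set (Ideal A), P.Finite ∧ (∀ p ∈ P, p.IsPrime ∧ ∃ a : A, a ≠ 0 ∧ ∀ b ∈ p, b * a = 0) ∧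
    ∀ b : A, (∀ p ∈ P, b ∉ p) → b ∈ nonZeroDivisors A

theorem finAss_of_noeth (A : Type u) [CommRing A] [IsNoetherianRing A] : FinAss A := by
  refine ⟨associatedPrimes A A, associatedPrimes.finite A A, ?_, ?_⟩
  · intro p hp
    obtain ⟨h1, a, rfl⟩ := (isAssociatedPrime_iff (M := A)).mp hp
    refine ⟨h1, a, ?_, fun b hb => by simpa using hb⟩
    rintro rfl
    exact h1.ne_top (by simp)
  · intro b hb
    by_contra hcon
    have h1 : b ∈ ((nonZeroDivisors A : Set A))ᶜ := hcon
    rw [← biUnion_associatedPrimes_eq_compl_nonZeroDivisors] at h1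
    obtain ⟨p, hp, hbp⟩ := Set.mem_iUnion₂.mp h1
    exact hb p hp hbp

theorem finAss_of_reduced (A : Type u) [CommRing A] [IsReduced A] (h : (minimalPrimes A).Finite) :
    FinAss A := by
  have hzero : ∀ a : A, (∀ p ∈ minimalPrimes A, a ∈ p) → a = 0 := by
    intro a ha
    have h1 : a ∈ (⊥ : Ideal A).radical := by
      rw [← Ideal.sInf_minimalPrimes, Ideal.mem_sInf]
      exact fun {p} hp => ha p hp
    have h2 : IsNilpotent a := by
      obtain ⟨n, hn⟩ := h1
      exact ⟨n, hn⟩
    exact h2.eq_zero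
  refine ⟨minimalPrimes A, h, fun p hp => ⟨hp.1.1, ?_⟩, fun b hb => ?_⟩
  · classical
    have hpp : p.IsPrime := hp.1.1
    have h1 : ¬ ((h.toFinset.erase p).inf id ≤ p) := by
      rw [hpp.inf_le']
      rintro ⟨q, hq, hle⟩
      rw [Finset.mem_erase, Set.Finite.mem_toFinset] at hq
      exact hq.1 (le_antisymm hle (hp.2 hq.2.1 hle))
    obtain ⟨a, ha, hap⟩ := SetLike.not_le_iff_exists.mp h1
    refine ⟨a, fun h0 => hap (h0 ▸ p.zero_mem), fun b hb => hzero _ fun q hq => ?_⟩
    by_cases hqp : q = p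
    · exact hqp ▸ Ideal.mul_mem_right _ _ hb
    · refine Ideal.mul_mem_left _ _ ?_
      rw [Submodule.mem_finsetInf] at ha
      exact ha q (Finset.mem_erase.mpr ⟨hqp, h.mem_toFinset.mpr hq⟩)
  · rw [mem_nonZeroDivisors_iff_right]
    intro c hc
    refine hzero c fun p hp => ?_
    have : c * b ∈ p := hc ▸ p.zero_mem
    exact (hp.1.1.mem_or_mem this).resolve_right (hb p hp)

/-- Avoidance: an ideal which is contained in no prime killed by a nonzero element contains a nonzerodivisor. -/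
theorem FinAss.exists_mem {A : Type u} [CommRing A] (h : FinAss A) (I : Ideal A)
    (hI : ∀ a : A, (∀ b ∈ I, b * a = 0) → a = 0) : ∃ b ∈ I, b ∈ nonZeroDivisors A := by
  obtain ⟨P, hfin, hP, hreg⟩ := h
  by_contra hcon
  push Not at hcon
  have h1 : (I : Set A) ⊆ ⋃ p ∈ P, (id p : Ideal A) := by
    intro b hb
    by_contra h2
    refine hcon b hb (hreg b fun p hp hbp => h2 ?_)
    exact Set.mem_iUnion₂.mpr ⟨p, hp, hbp⟩
  obtain ⟨p, hp, hle⟩ := (Ideal.subset_union_prime_finite hfin (f := id) ⊥ ⊥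
    (fun p hp _ _ => (hP p hp).1)).mp h1
  obtain ⟨-, a, ha, hpa⟩ := hP p hp
  exact ha (hI a fun b hb => hpa b (hle hb))

end K149.MaxPt
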