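import Groth.Agent.Mero.K149.Affine
import Groth.Agent.Mero.K149.MaxPt
import Mathlib.RingTheory.Ideal.AssociatedPrime.Localization

/-!
# Associated points of the structure sheaf of a locally Noetherian scheme

* `IsAss x`; `isAss_iff` (on affine opens); `exists_isAss_of_ne_zero`; `sdense_of_isAss`; `exists_isAss_of_not_regular`.
-/

set_option autoImplicit false
universe u

open CategoryTheory CategoryTheory.Limits AlgebraicGeometry Opposite TopologicalSpace
open Groth.Agent.Fdesc.LocGen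

namespace K149.Ass

open Mero K149.Basic K149.Affine K149.MaxPt

variable {X : Scheme.{u}}

/-- `x` is an associated point of the structure sheaf. -/
def IsAss (x : X) : Prop :=
  IsAssociatedPrime (IsLocalRing.maximalIdeal (X.presheaf.stalk x)) (X.presheaf.stalk x)

section AffineOpen

variable {U : X.Opens} (hU : IsAffineOpen U)
include hU

lemma isUnit_og_iff (x : U) (a : Γ(X, U)) : IsUnit (og x a) ↔ a ∉ (hU.primeIdealOf x).asIdeal := by
  let := X.presheaf.algebra_section_stalk x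
  have := hU.isLocalization_stalk x
  exact IsLocalization.AtPrime.isUnit_to_map_iff (X.presheaf.stalk x.1) (hU.primeIdealOf x).asIdeal a

lemma mem_maximalIdeal_og_iff (x : U) (a : Γ(X, U)) :
    og x a ∈ IsLocalRing.maximalIdeal (X.presheaf.stalk x.1) ↔ a ∈ (hU.primeIdealOf x).asIdeal := by
  rw [IsLocalRing.mem_maximalIdeal, mem_nonunits_iff, isUnit_og_iff hU, not_not]

lemma og_eq_zero_iff (x : U) (a : Γ(X, U)) :
    og x a = 0 ↔ ∃ t : Γ(X, U), t ∉ (hU.primeIdealOf x).asIdeal ∧ t * a = 0 := by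
  let := X.presheaf.algebra_section_stalk x
  have := hU.isLocalization_stalk x
  have h := IsLocalization.map_eq_zero_iff (hU.primeIdealOf x).asIdeal.primeCompl (X.presheaf.stalk x.1) a
  refine h.trans ⟨fun ⟨m, hm⟩ => ⟨m.1, m.2, hm⟩, fun ⟨t, ht, h0⟩ => ⟨⟨t, ht⟩, h0⟩⟩

lemma og_surj (x : U) (c : X.presheaf.stalk x.1) :
    ∃ (a t : Γ(X, U)), t ∉ (hU.primeIdealOf x).asIdeal ∧ og x t * c = og x a := by
  let := X.presheaf.algebra_section_stalk x
  have := hU.isLocalization_stalk x
  obtain ⟨⟨a, t⟩, h⟩ := IsLocalization.surj (hU.primeIdealOf x).asIdeal.primeCompl c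
  exact ⟨a, t.1, t.2, (mul_comm _ _).trans h⟩

lemma exists_point (p : Ideal Γ(X, U)) [hp : p.IsPrime] :
    ∃ y : U, (hU.primeIdealOf y).asIdeal = p := by
  refine ⟨⟨hU.fromSpec ⟨p, hp⟩, fromSpec_mem hU _⟩, ?_⟩
  have h : hU.primeIdealOf ⟨hU.fromSpec ⟨p, hp⟩, fromSpec_mem hU _⟩ = ⟨p, hp⟩ :=
    fromSpec_injective hU (hU.fromSpec_primeIdealOf _)
  rw [h]

/-- Associated points of the structure sheaf on an affine open. -/
theorem isAss_iff [IsLocallyNoetherian X] (x : U) :
    IsAss x.1 ↔ (hU.primeIdealOf x).asIdeal ∈ associatedPrimes Γ(X, U) Γ(X, U) := by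
  let := X.presheaf.algebra_section_stalk x
  have := hU.isLocalization_stalk x
  have := isNoetherianRing_of_isAffineOpen hU
  have h := Module.associatedPrimes.preimage_comap_associatedPrimes_eq_associatedPrimes_of_isLocalizedModule
    (hU.primeIdealOf x).asIdeal.primeCompl (X.presheaf.stalk x.1)
    (Algebra.linearMap Γ(X, U) (X.presheaf.stalk x.1))
  have h2 : (IsLocalRing.maximalIdeal (X.presheaf.stalk x.1)).comap
      (algebraMap Γ(X, U) (X.presheaf.stalk x.1)) = (hU.primeIdealOf x).asIdeal :=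
    IsLocalization.AtPrime.under_maximalIdeal (X.presheaf.stalk x.1) (hU.primeIdealOf x).asIdeal
  rw [← h2]
  have h3 := Set.ext_iff.mp h (IsLocalRing.maximalIdeal (X.presheaf.stalk x.1))
  exact h3.symm

/-- A nonzero function on an affine open has a nonzero germ at an associated point. -/
theorem exists_isAss_of_ne_zero [IsLocallyNoetherian X] {a : Γ(X, U)} (ha : a ≠ 0) :
    ∃ y : U, IsAss y.1 ∧ og y a ≠ 0 := by
  have := isNoetherianRing_of_isAffineOpen hU
  obtain ⟨P, hP, hle⟩ := exists_le_isAssociatedPrime_of_isNoetherianRing Γ(X, U) a ha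
  have := hP.isPrime
  obtain ⟨y, hy⟩ := exists_point hU P
  refine ⟨y, (isAss_iff hU y).mpr (hy.symm ▸ hP), fun h0 => ?_⟩
  obtain ⟨t, ht, hta⟩ := (og_eq_zero_iff hU y a).mp h0
  rw [hy] at ht
  exact ht (hle (by rw [Submodule.mem_colon_singleton]; exact hta))

end AffineOpen

/-- An open containing the associated points of `U` is schematically dense in `U`. -/
theorem sdense_of_isAss [IsLocallyNoetherian X] {V U : X.Opens} (h : ∀ x ∈ U, IsAss x → x ∈ V) :
    SDense V U := by
  refine SDense.of_local fun x hx => ?_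
  obtain ⟨W, hW, hxW, hWU⟩ := exists_affine_le hx
  refine ⟨W, hWU, hxW, ?_⟩
  rw [sdense_iff]
  intro W' hW' a ha
  refine oext fun y => ?_
  obtain ⟨W'', hW'', hyW'', hle⟩ := exists_affine_le y.2
  have h0 : ores hle a = 0 := by
    by_contra hne
    obtain ⟨z, hz, hz0⟩ := exists_isAss_of_ne_zero hW'' hne
    apply hz0
    have hzV : z.1 ∈ V := h z.1 (hWU (hW' (hle z.2))) hz
    have h1 := congrArg (og (U := W' ⊓ V) ⟨z.1, ⟨hle z.2, hzV⟩⟩) ha
    rw [og_ores inf_le_left, map_zero] at h1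
    rw [og_ores hle]
    exact h1
  have h2 := congrArg (og ⟨y.1, hyW''⟩) h0
  rw [og_ores hle, map_zero] at h2
  rw [map_zero]; exact h2

/-- Conversely, a schematically dense open contains the associated points. -/
theorem isAss_mem_of_sdense [IsLocallyNoetherian X] {V U : X.Opens} (h : SDense V U) {x : X}
    (hx : x ∈ U) (hass : IsAss x) : x ∈ V := by
  obtain ⟨W, hW, hxW, hWU⟩ := exists_affine_le hx
  have := isNoetherianRing_of_isAffineOpen hW
  obtain ⟨hp, a, ha⟩ := isAssociatedPrime_iff.mp ((isAss_iff hW ⟨x, hxW⟩).mp hass)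
  by_contra hxV
  have ha0 : a ≠ 0 := by
    rintro rfl
    exact hp.ne_top (by rw [ha]; simp)
  apply ha0
  refine h.eq_zero hWU (oext fun y => ?_)
  rw [og_ores inf_le_left, map_zero]
  -- y ∈ V, x ∉ V, so y does not specialize ... the prime of x is not contained in the prime of y
  have h1 : ¬ ((hW.primeIdealOf ⟨x, hxW⟩).asIdeal ≤ (hW.primeIdealOf ⟨y.1, y.2.1⟩).asIdeal) := by
    intro hle
    exact hxV (((primeIdealOf_le_iff hW ⟨x, hxW⟩ ⟨y.1, y.2.1⟩).mp hle).mem_open V.2 y.2.2)
  obtain ⟨t, ht, ht'⟩ := SetLike.not_le_iff_exists.mp h1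
  rw [og_eq_zero_iff hW ⟨y.1, y.2.1⟩]
  refine ⟨t, ht', ?_⟩
  rw [ha, Submodule.mem_colon_singleton] at ht
  exact ht

/-- If the germ of `b` at `x` is a zero divisor, then `b` is not a unit at some associated generization of `x`. -/
theorem exists_isAss_of_not_regular [IsLocallyNoetherian X] {U : X.Opens} (x : U) {b : Γ(X, U)}
    (hb : og x b ∉ nonZeroDivisors (X.presheaf.stalk x.1)) :
    ∃ y : U, y.1 ⤳ x.1 ∧ IsAss y.1 ∧ ¬ IsUnit (og y b) := by
  obtain ⟨W, hW, hxW, hWU⟩ := exists_affine_le x.2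
  have := isNoetherianRing_of_isAffineOpen hW
  let x' : W := ⟨x.1, hxW⟩
  let := X.presheaf.algebra_section_stalk x'
  have hloc := hW.isLocalization_stalk x'
  have h1 : og x b ∈ ((nonZeroDivisors (X.presheaf.stalk x.1) : Set _))ᶜ := hb
  rw [← biUnion_associatedPrimes_eq_compl_nonZeroDivisors] at h1
  obtain ⟨Q, hQ, hbQ⟩ := Set.mem_iUnion₂.mp h1
  have hQp : Q.IsPrime := hQ.1
  have h2 := Module.associatedPrimes.preimage_comap_associatedPrimes_eq_associatedPrimes_of_isLocalizedModule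
    (hW.primeIdealOf x').asIdeal.primeCompl (X.presheaf.stalk x'.1)
    (Algebra.linearMap Γ(X, W) (X.presheaf.stalk x'.1))
  have h3 := (Set.ext_iff.mp h2 Q).mpr hQ
  obtain ⟨y, hy⟩ := exists_point hW (Q.comap (algebraMap Γ(X, W) (X.presheaf.stalk x'.1)))
  refine ⟨⟨y.1, hWU y.2⟩, ?_, (isAss_iff hW y).mpr (by rw [hy]; exact h3), ?_⟩
  · have h4 : hW.primeIdealOf y ≤ hW.primeIdealOf x' := by
      change (hW.primeIdealOf y).asIdeal ≤ (hW.primeIdealOf x').asIdeal
      rw [hy]
      intro t ht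
      by_contra hcon
      rw [← isUnit_og_iff hW x'] at hcon
      exact hQp.ne_top (Ideal.eq_top_of_isUnit_mem _ ht hcon)
    exact (primeIdealOf_le_iff hW y x').mp h4
  · have h5 : og (U := U) ⟨y.1, hWU y.2⟩ b = og y (ores hWU b) := (og_ores hWU y b).symm
    rw [h5, isUnit_og_iff hW, not_not, hy]
    change og x' (ores hWU b) ∈ Q
    rw [og_ores hWU]
    exact hbQ

/-- At an associated point, nonzerodivisors are units. -/
lemma isUnit_of_isAss {x : X} (hx : IsAss x) {t : X.presheaf.stalk x}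
    (ht : t ∈ nonZeroDivisors (X.presheaf.stalk x)) : IsUnit t := by
  by_contra hcon
  obtain ⟨hp, m, hm⟩ := hx
  have h1 : t ∈ IsLocalRing.maximalIdeal (X.presheaf.stalk x) := hcon
  rw [hm] at h1
  obtain ⟨n, hn⟩ := h1
  rw [Submodule.mem_colon_singleton, Submodule.mem_bot, smul_eq_mul] at hn
  have h2 : m = 0 := (mem_nonZeroDivisors_iff_left.mp (pow_mem ht n)) m hn
  apply hp.ne_top
  rw [hm, h2]
  simp

end K149.Ass
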