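import Groth.Prelude.Def_MeroSh
import Groth.Agent.Fdesc.LocGen

/-!
# Calculus of sections of the sheaf of meromorphic functions

* `frac a b : Γ(kmod X, U)` the fraction `a / b`, `b` regular; `exists_frac` (every section is locally a fraction)
* `kext`, `exists_eq_near`, `isUnit_iff`, `toK_injective`, `frac_eq_frac_iff`, `exists_near` (elements of
  `K_{X,x}` extend), `exists_toK_near`, `exists_toK_eq` (sections with values in `O_X`).
-/

set_option autoImplicit false
universe u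

open CategoryTheory CategoryTheory.Limits AlgebraicGeometry Opposite TopologicalSpace
open Groth.Agent.Fdesc.LocGen

namespace K149.Basic

variable {X : Scheme.{u}}

open Mero

/-! ### Germs of functions -/

/-- Germ of a function. -/
noncomputable def og {U : X.Opens} (x : U) : Γ(X, U) →+* X.presheaf.stalk x.1 :=
  (X.presheaf.germ U x.1 x.2).hom

lemma og_def {U : X.Opens} (x : U) (a : Γ(X, U)) : og x a = X.presheaf.germ U x.1 x.2 a := rfl

lemma og_ores {U V : X.Opens} (h : V ≤ U) (x : V) (a : Γ(X, U)) :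
    og x (ores h a) = og ⟨x.1, h x.2⟩ a :=
  TopCat.Presheaf.germ_res_apply X.presheaf (homOfLE h) x.1 x.2 a

lemma ores_mem {U V : X.Opens} (h : V ≤ U) {b : Γ(X, U)} (hb : b ∈ regSub X U) :
    ores h b ∈ regSub X V := regSub_res (homOfLE h) hb

lemma oext {U : X.Opens} {a b : Γ(X, U)} (h : ∀ x : U, og x a = og x b) : a = b :=
  TopCat.Presheaf.section_ext X.sheaf U a b (fun x hx => h ⟨x, hx⟩)

lemma mem_regSub {U : X.Opens} {b : Γ(X, U)} :
    b ∈ regSub X U ↔ ∀ x : U, og x b ∈ nonZeroDivisors (X.presheaf.stalk x.1) := Iff.rfl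

lemma regSub_le_nonZeroDivisors (U : X.Opens) : regSub X U ≤ nonZeroDivisors Γ(X, U) := by
  intro b hb
  rw [mem_nonZeroDivisors_iff_right]
  intro a ha
  refine oext fun x => ?_
  have := (mem_nonZeroDivisors_iff_right.mp (hb x)) (og x a) (by
    change og x a * og x b = 0
    rw [← map_mul, ha, map_zero])
  rw [this]; exact (map_zero _).symm

/-- A factor of a regular section is regular. -/
lemma mem_regSub_of_mul {U : X.Opens} {a b : Γ(X, U)} (h : a * b ∈ regSub X U) : a ∈ regSub X U := by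
  intro x
  have h1 := h x
  change og x (a * b) ∈ _ at h1
  rw [map_mul] at h1
  exact (mul_mem_nonZeroDivisors.mp h1).1

lemma germ_exists {x : X} (t : X.presheaf.stalk x) (W : X.Opens) (hx : x ∈ W) :
    ∃ (V : X.Opens) (_ : V ≤ W) (hV : x ∈ V) (a : Γ(X, V)), og ⟨x, hV⟩ a = t := by
  obtain ⟨V, hV, a, rfl⟩ := TopCat.Presheaf.exists_germ_eq X.presheaf t
  refine ⟨V ⊓ W, inf_le_right, ⟨hV, hx⟩, ores inf_le_left a, ?_⟩
  exact og_ores inf_le_left ⟨x, ⟨hV, hx⟩⟩ a

lemma germ_eq_near {U : X.Opens} (x : U) {a b : Γ(X, U)} (h : og x a = og x b) :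
    ∃ (V : X.Opens) (hV : V ≤ U), x.1 ∈ V ∧ ores hV a = ores hV b := by
  obtain ⟨W, hW, i, j, hij⟩ := TopCat.Presheaf.germ_eq X.presheaf x.1 x.2 x.2 a b h
  exact ⟨W, i.le, hW, hij⟩

/-! ### Sections of `K_X` -/

lemma kext {U : X.Opens} {s t : Γ(kmod X, U)} (h : ∀ x : U, s.1 x = t.1 x) : s = t :=
  Subtype.ext (funext h)

@[simp] lemma res_apply {U V : X.Opens} (h : V ≤ U) (s : Γ(kmod X, U)) (x : V) :
    (res (kmod X) h s).1 x = s.1 ⟨x.1, h x.2⟩ := rfl

@[simp] lemma res_mul {U V : X.Opens} (h : V ≤ U) (s t : Γ(kmod X, U)) :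
    res (kmod X) h (s * t) = res (kmod X) h s * res (kmod X) h t := rfl

@[simp] lemma res_one' {U V : X.Opens} (h : V ≤ U) :
    res (kmod X) h (1 : Γ(kmod X, U)) = 1 := rfl

/-- Restriction as a ring homomorphism. -/
noncomputable def kres {U V : X.Opens} (h : V ≤ U) : Γ(kmod X, U) →+* Γ(kmod X, V) :=
  ((kring X).obj.map (homOfLE h).op).hom

lemma kres_eq {U V : X.Opens} (h : V ≤ U) (s : Γ(kmod X, U)) : kres h s = res (kmod X) h s := rfl

lemma smul_eq_toK_mul {U : X.Opens} (r : Γ(X, U)) (s : Γ(kmod X, U)) : r • s = toK X U r * s := by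
  refine kext fun x => ?_
  change X.presheaf.germ U x.1 x.2 r • s.1 x = (toK X U r).1 x * s.1 x
  rw [Algebra.smul_def]
  rfl

@[simp] lemma res_toK {U V : X.Opens} (h : V ≤ U) (r : Γ(X, U)) :
    res (kmod X) h (toK X U r) = toK X V (ores h r) := by
  refine kext fun x => ?_
  exact mk_congr (og_ores h x r).symm rfl

lemma toK_apply' {U : X.Opens} (r : Γ(X, U)) (x : U) :
    (toK X U r).1 x = algebraMap (X.presheaf.stalk x.1) (KStalk X x.1) (og x r) := rfl

lemma toK_injective (U : X.Opens) : Function.Injective (toK X U) := by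
  intro a b h
  refine oext fun x => algebraMap_KStalk_injective x.1 ?_
  exact congrFun (congrArg Subtype.val h) x

/-- The fraction `a / b`. -/
noncomputable def frac {U : X.Opens} (a : Γ(X, U)) (b : regSub X U) : Γ(kmod X, U) :=
  ⟨fun x => LocalizedModule.mk (X.presheaf.germ U x.1 x.2 a) (regGerm x b),
    fun x => ⟨U, x.2, 𝟙 _, a, b, fun _ => rfl⟩⟩

lemma frac_apply {U : X.Opens} (a : Γ(X, U)) (b : regSub X U) (x : U) :
    (frac a b).1 x = IsLocalization.mk' (KStalk X x.1) (og x a) (regGerm x b) :=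
  Localization.mk_eq_mk'_apply _ _

lemma frac_apply' {U : X.Opens} (a : Γ(X, U)) (b : regSub X U) (x : U) :
    (frac a b).1 x = LocalizedModule.mk (og x a) (regGerm x b) := rfl

lemma frac_mul_toK {U : X.Opens} (a : Γ(X, U)) (b : regSub X U) :
    frac a b * toK X U b.1 = toK X U a := by
  refine kext fun x => ?_
  rw [kmod_mul_apply, frac_apply, toK_apply', toK_apply']
  exact IsLocalization.mk'_spec (KStalk X x.1) (og x a) (regGerm x b)

lemma toK_mul_frac {U : X.Opens} (a : Γ(X, U)) (b : regSub X U) :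
    toK X U b.1 * frac a b = toK X U a := by
  rw [mul_comm, frac_mul_toK]

/-- A regular section is invertible in `K_X`. -/
lemma isUnit_toK {U : X.Opens} {b : Γ(X, U)} (hb : b ∈ regSub X U) : IsUnit (toK X U b) := by
  refine IsUnit.of_mul_eq_one (frac 1 ⟨b, hb⟩) ?_
  rw [mul_comm, frac_mul_toK (1 : Γ(X, U)) ⟨b, hb⟩, map_one]

lemma toK_mem_nonZeroDivisors {U : X.Opens} {b : Γ(X, U)} (hb : b ∈ regSub X U) :
    toK X U b ∈ nonZeroDivisors Γ(kmod X, U) := (isUnit_toK hb).mem_nonZeroDivisors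

lemma eq_frac_iff {U : X.Opens} (s : Γ(kmod X, U)) (a : Γ(X, U)) (b : regSub X U) :
    s = frac a b ↔ s * toK X U b.1 = toK X U a := by
  constructor
  · rintro rfl; exact frac_mul_toK a b
  · intro h
    rw [← frac_mul_toK a b] at h
    exact (isUnit_toK b.2).mul_right_cancel h

lemma frac_eq_frac_iff {U : X.Opens} (a a' : Γ(X, U)) (b b' : regSub X U) :
    frac a b = frac a' b' ↔ a * b'.1 = a' * b.1 := by
  rw [eq_frac_iff, ← (toK_injective U).eq_iff, map_mul, map_mul, ← frac_mul_toK a b,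
    mul_right_comm, (isUnit_toK b.2).mul_left_inj]

lemma res_frac {U V : X.Opens} (h : V ≤ U) (a : Γ(X, U)) (b : regSub X U) :
    res (kmod X) h (frac a b) = frac (ores h a) ⟨ores h b.1, ores_mem h b.2⟩ := by
  rw [eq_frac_iff]
  change _ * toK X V (ores h b.1) = _
  rw [← res_toK, ← res_toK, ← res_mul, frac_mul_toK]

lemma frac_one {U : X.Opens} (a : Γ(X, U)) : frac a 1 = toK X U a := by
  symm; rw [eq_frac_iff]; simp

/-- Every section is locally a fraction. -/
lemma exists_frac {U : X.Opens} (s : Γ(kmod X, U)) (x : U) (W : X.Opens) (hxW : x.1 ∈ W) :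
    ∃ (V : X.Opens) (h : V ≤ U) (_ : V ≤ W) (_ : x.1 ∈ V) (a : Γ(X, V)) (b : regSub X V),
      res (kmod X) h s = frac a b := by
  obtain ⟨V, hx, i, a, b, hab⟩ := s.2 x
  refine ⟨V ⊓ W, inf_le_left.trans i.le, inf_le_right, ⟨hx, hxW⟩, ores inf_le_left a,
    ⟨ores inf_le_left b.1, ores_mem _ b.2⟩, ?_⟩
  rw [← res_frac]
  refine kext fun y => ?_
  exact hab ⟨y.1, y.2.1⟩

/-- Every section is locally a fraction, on an affine open. -/
lemma exists_frac_affine {U : X.Opens} (s : Γ(kmod X, U)) (x : U) (W : X.Opens) (hxW : x.1 ∈ W) :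
    ∃ (V : X.Opens) (_ : IsAffineOpen V) (h : V ≤ U) (_ : V ≤ W) (_ : x.1 ∈ V) (a : Γ(X, V))
      (b : regSub X V), res (kmod X) h s = frac a b := by
  obtain ⟨V, h, hW, hx, a, b, hab⟩ := exists_frac s x W hxW
  obtain ⟨_, ⟨V', hV', rfl⟩, hxV', hle⟩ :=
    X.isBasis_affineOpens.exists_subset_of_mem_open hx V.2
  have hle' : V' ≤ V := hle
  refine ⟨V', hV', hle'.trans h, hle'.trans hW, hxV', ores hle' a,
    ⟨ores hle' b.1, ores_mem _ b.2⟩, ?_⟩
  rw [← res_frac, ← hab, res_res]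

/-- Sections with the same value at a point agree near it. -/
lemma exists_eq_near {U : X.Opens} {s t : Γ(kmod X, U)} (x : U) (h : s.1 x = t.1 x) :
    ∃ (V : X.Opens) (hV : V ≤ U), x.1 ∈ V ∧ res (kmod X) hV s = res (kmod X) hV t := by
  obtain ⟨V, hV, -, hx, a, b, hab⟩ := exists_frac s x U x.2
  obtain ⟨V', hV', hV'V, hx', a', b', hab'⟩ := exists_frac t x V hx
  have h1 : res (kmod X) hV' s = frac (ores hV'V a) ⟨ores hV'V b.1, ores_mem _ b.2⟩ := by
    rw [← res_frac, ← hab, res_res]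
  have h2 : og ⟨x.1, hx'⟩ (ores hV'V a * b'.1) = og ⟨x.1, hx'⟩ (a' * ores hV'V b.1) := by
    apply algebraMap_KStalk_injective
    have e1 : (res (kmod X) hV' s).1 ⟨x.1, hx'⟩ = (res (kmod X) hV' t).1 ⟨x.1, hx'⟩ := h
    rw [h1, hab', frac_apply, frac_apply, IsLocalization.mk'_eq_iff_eq] at e1
    rw [map_mul (og _), map_mul (og _), mul_comm, mul_comm (og _ a')]
    exact e1
  obtain ⟨W, hW, hxW, e⟩ := germ_eq_near ⟨x.1, hx'⟩ h2
  refine ⟨W, hW.trans hV', hxW, ?_⟩
  rw [← res_res (kmod X) hV' hW, ← res_res (kmod X) hV' hW, h1, hab', res_frac, res_frac,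
    frac_eq_frac_iff]
  simpa using e

/-- Every element of `K_{X,x}` is the value of a fraction near `x`. -/
lemma exists_near {x : X} (k : KStalk X x) (W : X.Opens) (hx : x ∈ W) :
    ∃ (V : X.Opens) (_ : V ≤ W) (hV : x ∈ V) (a : Γ(X, V)) (b : regSub X V),
      (frac a b).1 ⟨x, hV⟩ = k := by
  obtain ⟨a, b, rfl⟩ := IsLocalization.exists_mk'_eq (regStalk X x) k
  obtain ⟨V, hV, hxV, a', rfl⟩ := germ_exists a W hx
  obtain ⟨b, V', hxV', b', hb', rfl⟩ := b
  refine ⟨V ⊓ V', inf_le_left.trans hV, ⟨hxV, hxV'⟩, ores inf_le_left a',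
    ⟨ores inf_le_right b', ores_mem _ hb'⟩, ?_⟩
  rw [frac_apply]
  congr 1
  · exact og_ores inf_le_left ⟨x, ⟨hxV, hxV'⟩⟩ a'
  · exact Subtype.ext (og_ores inf_le_right ⟨x, ⟨hxV, hxV'⟩⟩ b')

/-- If the value at `x` lies in the local ring, the section is a function near `x`. -/
lemma exists_toK_near {U : X.Opens} (s : Γ(kmod X, U)) (x : U)
    (h : s.1 x ∈ (algebraMap (X.presheaf.stalk x.1) (KStalk X x.1)).range) :
    ∃ (V : X.Opens) (hV : V ≤ U) (_ : x.1 ∈ V) (r : Γ(X, V)), res (kmod X) hV s = toK X V r := by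
  obtain ⟨t, ht⟩ := h
  obtain ⟨V, hV, hx, r, rfl⟩ := germ_exists t U x.2
  obtain ⟨W, hW, hxW, e⟩ := exists_eq_near (s := res (kmod X) hV s) (t := toK X V r) ⟨x.1, hx⟩ ht.symm
  exact ⟨W, hW.trans hV, hxW, ores hW r, by rw [← res_res (kmod X) hV hW, e, res_toK]⟩

/-- A section with values in the local rings is a function. -/
lemma exists_toK_eq {U : X.Opens} (s : Γ(kmod X, U))
    (h : ∀ x : U, s.1 x ∈ (algebraMap (X.presheaf.stalk x.1) (KStalk X x.1)).range) :
    ∃ r : Γ(X, U), s = toK X U r := by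
  choose V hV hx r hr using fun x : U => exists_toK_near s x (h x)
  have hcov : U ≤ ⨆ x, V x := fun x hxU => Opens.mem_iSup.mpr ⟨⟨x, hxU⟩, hx ⟨x, hxU⟩⟩
  obtain ⟨t, ht⟩ := ores_glue V hV hcov r (by
    intro i j
    apply toK_injective
    rw [← res_toK, ← res_toK, ← hr, ← hr, res_res, res_res])
  refine ⟨t, res_ext (kmod X) V hV hcov fun i => ?_⟩
  rw [res_toK, ht, hr]

/-- If `a / b` is a unit at `x`, then `a` is regular near `x`. -/
lemma mem_regSub_near {U : X.Opens} {a : Γ(X, U)} (x : U) (h : IsUnit ((toK X U a).1 x)) :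
    ∃ (V : X.Opens) (hV : V ≤ U), x.1 ∈ V ∧ ores hV a ∈ regSub X V := by
  obtain ⟨k, hk⟩ := h.exists_right_inv
  obtain ⟨V, hV, hx, c, d, rfl⟩ := exists_near k U x.2
  obtain ⟨W, hW, hxW, e⟩ := exists_eq_near (s := toK X V (ores hV a) * frac c d) (t := 1) ⟨x.1, hx⟩ (by
    rw [← res_toK]; exact hk)
  refine ⟨W, hW.trans hV, hxW, ?_⟩
  have e2 : ores (hW.trans hV) a * ores hW c = ores hW d.1 := by
    apply toK_injective
    have e3 := congrArg (· * toK X W (ores hW d.1)) e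
    simp only [res_mul, res_toK, ores_ores, res_frac, res_one', one_mul] at e3
    rw [mul_assoc, frac_mul_toK (ores hW c) ⟨ores hW d.1, ores_mem hW d.2⟩] at e3
    rw [map_mul, e3]
  exact mem_regSub_of_mul (e2 ▸ ores_mem hW d.2)

/-- A section of `K_X` is a unit if its values are. -/
lemma isUnit_iff {U : X.Opens} (s : Γ(kmod X, U)) : IsUnit s ↔ ∀ x : U, IsUnit (s.1 x) := by
  constructor
  · intro h x
    exact h.map (evalK X U x)
  · intro h
    have key : ∀ x : U, ∃ (V : X.Opens) (hV : V ≤ U) (_ : x.1 ∈ V) (t : Γ(kmod X, V)),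
        res (kmod X) hV s * t = 1 := by
      intro x
      obtain ⟨V, hV, -, hx, a, b, hab⟩ := exists_frac s x U x.2
      have h1 : IsUnit ((toK X V a).1 ⟨x.1, hx⟩) := by
        rw [← frac_mul_toK a b, ← hab]
        exact (h x).mul (((isUnit_toK b.2).map (evalK X V ⟨x.1, hx⟩)))
      obtain ⟨W, hW, hxW, hreg⟩ := mem_regSub_near ⟨x.1, hx⟩ h1
      refine ⟨W, hW.trans hV, hxW, frac (ores hW b.1) ⟨ores hW a, hreg⟩, ?_⟩
      rw [← res_res (kmod X) hV hW, hab, res_frac]
      apply (isUnit_toK hreg).mul_right_cancel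
      rw [mul_assoc, frac_mul_toK (ores hW b.1) ⟨ores hW a, hreg⟩, one_mul]
      exact frac_mul_toK (ores hW a) ⟨ores hW b.1, ores_mem hW b.2⟩
    choose V hV hx t ht using key
    have hcov : U ≤ ⨆ x, V x := fun x hxU => Opens.mem_iSup.mpr ⟨⟨x, hxU⟩, hx ⟨x, hxU⟩⟩
    obtain ⟨t', ht'⟩ := res_glue (kmod X) V hV hcov t (by
      intro i j
      have h1 := congrArg (res (kmod X) (inf_le_left : V i ⊓ V j ≤ V i)) (ht i)
      have h2 := congrArg (res (kmod X) (inf_le_right : V i ⊓ V j ≤ V j)) (ht j)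
      simp only [res_mul, res_res, res_one'] at h1 h2
      exact left_inv_eq_right_inv (by rw [mul_comm]; exact h1) h2)
    refine IsUnit.of_mul_eq_one t' (res_ext (kmod X) V hV hcov fun i => ?_)
    rw [res_mul, ht', ht, res_one']

end K149.Basic
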