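import Groth.Agent.Mero.K149.Affine
import Groth.Prelude.Def_MeroDiv

/-!
# Divisors and the modules `O_X(D)`

* `divCond_iff`, `exists_local`, `gen`, `isGen_gen` (local generator `f⁻¹` of `O_X(D)` where `D = div f`),
  `isInvertible_divMod`, `nonempty_iso_of_linEquiv`, `eq_of_divCond_iff`, `mono_iff`.
-/

set_option autoImplicit false
universe u

open CategoryTheory CategoryTheory.Limits AlgebraicGeometry Opposite TopologicalSpace
open Groth.Agent.Fdesc.LocGen

namespace K149.Div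

open Mero K149.Basic K149.Affine

variable {X : Scheme.{u}}

lemma mono_iff {M N : X.Modules} (φ : M ⟶ N) :
    Mono φ ↔ ∀ U, Function.Injective (φ.app U) := by
  have h1 : Mono φ ↔ Mono ((Scheme.Modules.toPresheaf X).map φ) :=
    ⟨fun _ ↦ inferInstance, fun h ↦ (Scheme.Modules.toPresheaf X).mono_of_mono_map h⟩
  rw [h1, NatTrans.mono_iff_mono_app]
  simp only [Scheme.Modules.toPresheaf_map]
  constructor
  · intro h U
    have := h (op U)
    rw [AddCommGrpCat.mono_iff_injective] at this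
    exact this
  · intro h U
    rw [AddCommGrpCat.mono_iff_injective]
    exact h U.unop

/-- The local ring as a subring of `K_{X,x}`. -/
noncomputable abbrev O (X : Scheme.{u}) (x : X) : Subring (KStalk X x) :=
  (algebraMap (X.presheaf.stalk x) (KStalk X x)).range

lemma mk_eq_mk_iff {x : X} (g g' : (KStalk X x)ˣ) :
    (QuotientGroup.mk g : Germ X x) = QuotientGroup.mk g' ↔
      ∃ u : (X.presheaf.stalk x)ˣ, (g' : KStalk X x) = algebraMap _ _ (u : X.presheaf.stalk x) * g := by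
  rw [QuotientGroup.eq]
  constructor
  · rintro ⟨u, hu⟩
    refine ⟨u, ?_⟩
    have h1 : g' = g * (g⁻¹ * g') := by group
    rw [h1, ← hu, Units.val_mul, mul_comm]
    rfl
  · rintro ⟨u, hu⟩
    refine ⟨u, ?_⟩
    ext
    rw [Units.val_mul, hu, mul_left_comm, Units.inv_mul, mul_one]
    rfl

lemma mk_eq_one_iff {x : X} (g : (KStalk X x)ˣ) :
    (QuotientGroup.mk g : Germ X x) = 1 ↔
      ∃ u : (X.presheaf.stalk x)ˣ, (g : KStalk X x) = algebraMap _ _ (u : X.presheaf.stalk x) := by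
  rw [eq_comm, ← QuotientGroup.mk_one, mk_eq_mk_iff]
  simp

/-- The defining condition of `O_X(D)` may be checked with one representative. -/
lemma divCond_iff (D : Divisor X) {x : X} {g : (KStalk X x)ˣ} (hg : D.1 x = QuotientGroup.mk g)
    (t : KStalk X x) : DivCond D x t ↔ t * g ∈ O X x := by
  refine ⟨fun h => h g hg, fun h g' hg' => ?_⟩
  obtain ⟨u, hu⟩ := (mk_eq_mk_iff g g').mp (hg.symm.trans hg')
  rw [hu, mul_left_comm]
  exact mul_mem ⟨_, rfl⟩ h

/-- Restriction of units. -/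
noncomputable def ures {U V : X.Opens} (h : V ≤ U) (f : (Γ(kmod X, U))ˣ) : (Γ(kmod X, V))ˣ :=
  Units.map (kres h).toMonoidHom f

@[simp] lemma ures_val {U V : X.Opens} (h : V ≤ U) (f : (Γ(kmod X, U))ˣ) :
    ((ures h f : (Γ(kmod X, V))ˣ) : Γ(kmod X, V)) = res (kmod X) h f := rfl

@[simp] lemma ures_inv_val {U V : X.Opens} (h : V ≤ U) (f : (Γ(kmod X, U))ˣ) :
    (((ures h f)⁻¹ : (Γ(kmod X, V))ˣ) : Γ(kmod X, V)) = res (kmod X) h (f⁻¹ : (Γ(kmod X, U))ˣ) := rfl

lemma germOf_ures {U V : X.Opens} (h : V ≤ U) (f : (Γ(kmod X, U))ˣ) (x : V) :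
    germOf (ures h f) x = germOf f ⟨x.1, h x.2⟩ := rfl

/-- The value of a unit. -/
noncomputable abbrev uval {U : X.Opens} (f : (Γ(kmod X, U))ˣ) (x : U) : (KStalk X x.1)ˣ :=
  Units.map (evalK X U x).toMonoidHom f

lemma uval_val {U : X.Opens} (f : (Γ(kmod X, U))ˣ) (x : U) :
    ((uval f x : (KStalk X x.1)ˣ) : KStalk X x.1) = (f : Γ(kmod X, U)).1 x := rfl

lemma uval_mul_inv {U : X.Opens} (f : (Γ(kmod X, U))ˣ) (x : U) :
    (uval f x : KStalk X x.1) * (uval f⁻¹ x : KStalk X x.1) = 1 := by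
  rw [← Units.val_mul, ← map_mul, mul_inv_cancel, map_one, Units.val_one]

lemma dmul_comm (D E : Divisor X) : D * E = E * D := by
  refine Subtype.ext (funext fun x => ?_)
  obtain ⟨g, hg⟩ := QuotientGroup.mk_surjective (D.1 x)
  obtain ⟨g', hg'⟩ := QuotientGroup.mk_surjective (E.1 x)
  change D.1 x * E.1 x = E.1 x * D.1 x
  rw [← hg, ← hg', ← QuotientGroup.mk_mul, ← QuotientGroup.mk_mul, mul_comm]

/-- `D` is the divisor of `f` over `U`. -/
def IsLoc (D : Divisor X) (U : X.Opens) (f : (Γ(kmod X, U))ˣ) : Prop :=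
  ∀ y : U, D.1 y.1 = germOf f y

lemma exists_local (D : Divisor X) (x : X) :
    ∃ (U : X.Opens) (_ : x ∈ U) (f : (Γ(kmod X, U))ˣ), IsLoc D U f := D.2 x

lemma IsLoc.res {D : Divisor X} {U V : X.Opens} {f : (Γ(kmod X, U))ˣ} (hf : IsLoc D U f)
    (h : V ≤ U) : IsLoc D V (ures h f) := fun y => hf ⟨y.1, h y.2⟩

lemma IsLoc.mul {D E : Divisor X} {U : X.Opens} {f g : (Γ(kmod X, U))ˣ} (hf : IsLoc D U f)
    (hg : IsLoc E U g) : IsLoc (D * E) U (f * g) := fun y => by
  change D.1 y.1 * E.1 y.1 = _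
  rw [hf y, hg y, ← QuotientGroup.mk_mul]
  rfl

lemma IsLoc.inv {D : Divisor X} {U : X.Opens} {f : (Γ(kmod X, U))ˣ} (hf : IsLoc D U f) :
    IsLoc D⁻¹ U f⁻¹ := fun y => by
  change (D.1 y.1)⁻¹ = _
  rw [hf y, ← QuotientGroup.mk_inv]
  rfl

lemma isLoc_one {U : X.Opens} : IsLoc (1 : Divisor X) U 1 := fun y => by
  change (1 : Germ X y.1) = _
  rw [germOf, map_one, QuotientGroup.mk_one]

lemma isLoc_div (f : (Γ(kmod X, ⊤))ˣ) {U : X.Opens} : IsLoc (div f) U (ures le_top f) := fun _ => rfl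

lemma divisor_ext {D E : Divisor X} (h : ∀ x : X, D.1 x = E.1 x) : D = E := Subtype.ext (funext h)

/-- Two local equations of a divisor differ by a unit function. -/
lemma isLoc_iff {D : Divisor X} {U : X.Opens} {f g : (Γ(kmod X, U))ˣ} (hf : IsLoc D U f) :
    IsLoc D U g ↔ ∃ u : (Γ(X, U))ˣ, (g : Γ(kmod X, U)) = toK X U u * f := by
  constructor
  · intro hg
    have h1 : ∀ x : U, ((g * f⁻¹ : (Γ(kmod X, U))ˣ) : Γ(kmod X, U)).1 x ∈ O X x.1 := by
      intro x
      obtain ⟨u, hu⟩ := (mk_eq_mk_iff (uval f x) (uval g x)).mp ((hf x).symm.trans (hg x))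
      refine ⟨u, ?_⟩
      rw [Units.val_mul, kmod_mul_apply, ← uval_val, ← uval_val, hu, mul_assoc, uval_mul_inv,
        mul_one]
    have h2 : ∀ x : U, ((f * g⁻¹ : (Γ(kmod X, U))ˣ) : Γ(kmod X, U)).1 x ∈ O X x.1 := by
      intro x
      obtain ⟨u, hu⟩ := (mk_eq_mk_iff (uval g x) (uval f x)).mp ((hg x).symm.trans (hf x))
      refine ⟨u, ?_⟩
      rw [Units.val_mul, kmod_mul_apply, ← uval_val, ← uval_val, hu, mul_assoc, uval_mul_inv,
        mul_one]
    obtain ⟨r, hr⟩ := exists_toK_eq _ h1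
    obtain ⟨s, hs⟩ := exists_toK_eq _ h2
    have hrs : r * s = 1 := toK_injective U (by
      rw [map_mul, ← hr, ← hs, map_one, ← Units.val_mul]; simp)
    refine ⟨⟨r, s, hrs, by rw [mul_comm]; exact hrs⟩, ?_⟩
    change _ = toK X U r * _
    rw [← hr, ← Units.val_mul]; simp
  · rintro ⟨u, hu⟩ y
    rw [hf y]
    refine (mk_eq_mk_iff (uval f y) (uval g y)).mpr ⟨Units.map (og y).toMonoidHom u, ?_⟩
    rw [uval_val, hu, kmod_mul_apply]
    rfl

/-! ### Sections of `O_X(D)` -/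

@[simp] lemma divModι_app {D : Divisor X} {U : X.Opens} (t : Γ(divMod D, U)) (x : U) :
    ((divModι D).app U t).1 x = t.1 x := rfl

lemma divModι_injective (D : Divisor X) (U : X.Opens) : Function.Injective ((divModι D).app U) := by
  intro s t h
  refine Subtype.ext (funext fun x => ?_)
  exact congrFun (congrArg Subtype.val h) x

instance (D : Divisor X) : Mono (divModι D) := (mono_iff _).mpr (divModι_injective D)

/-- A section of `K_X` which satisfies the condition at every point. -/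
noncomputable def mkSec (D : Divisor X) {U : X.Opens} (t : Γ(kmod X, U)) (h : ∀ x : U, DivCond D x.1 (t.1 x)) :
    Γ(divMod D, U) := ⟨t.1, t.2, h⟩

@[simp] lemma divModι_mkSec (D : Divisor X) {U : X.Opens} (t : Γ(kmod X, U))
    (h : ∀ x : U, DivCond D x.1 (t.1 x)) : (divModι D).app U (mkSec D t h) = t := rfl

lemma mem_range_iff {D : Divisor X} {U : X.Opens} (t : Γ(kmod X, U)) :
    t ∈ Set.range ((divModι D).app U) ↔ ∀ x : U, DivCond D x.1 (t.1 x) :=
  ⟨by rintro ⟨s, rfl⟩; exact s.2.2, fun h => ⟨mkSec D t h, rfl⟩⟩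

/-- Over an open where `D = div f`, the sections of `O_X(D)` are the `t` with `t f ∈ O`. -/
lemma IsLoc.mem_iff {D : Divisor X} {U : X.Opens} {f : (Γ(kmod X, U))ˣ} (hf : IsLoc D U f)
    (t : Γ(kmod X, U)) : (∀ x : U, DivCond D x.1 (t.1 x)) ↔ ∃ r : Γ(X, U), t * f = toK X U r := by
  constructor
  · intro h
    exact exists_toK_eq _ fun x => (divCond_iff D (hf x) _).mp (h x)
  · rintro ⟨r, hr⟩ x
    rw [divCond_iff D (hf x)]
    refine ⟨og x r, ?_⟩
    rw [← toK_apply', ← hr]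
    rfl

/-- The generator `f⁻¹` of `O_X(D)` over an open where `D = div f`. -/
noncomputable def gen {D : Divisor X} {U : X.Opens} {f : (Γ(kmod X, U))ˣ} (hf : IsLoc D U f) :
    Γ(divMod D, U) :=
  mkSec D (f⁻¹ : (Γ(kmod X, U))ˣ) ((hf.mem_iff _).mpr ⟨1, by rw [Units.inv_mul, map_one]⟩)

@[simp] lemma divModι_gen {D : Divisor X} {U : X.Opens} {f : (Γ(kmod X, U))ˣ} (hf : IsLoc D U f) :
    (divModι D).app U (gen hf) = (f⁻¹ : (Γ(kmod X, U))ˣ) := rfl

lemma divModι_smul (D : Divisor X) {U : X.Opens} (r : Γ(X, U)) (t : Γ(divMod D, U)) :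
    (divModι D).app U (r • t) = toK X U r * (divModι D).app U t := by
  rw [Scheme.Modules.Hom.app_smul]
  exact smul_eq_toK_mul r _

lemma isGen_gen {D : Divisor X} {U : X.Opens} {f : (Γ(kmod X, U))ˣ} (hf : IsLoc D U f) :
    IsGen (gen hf) := by
  intro V hV
  have h1 : res (divMod D) hV (gen hf) = gen (hf.res hV) := rfl
  rw [h1]
  constructor
  · intro a b hab
    apply toK_injective
    have := congrArg ((divModι D).app V) hab
    simp only [divModι_smul, divModι_gen] at this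
    exact (Units.mul_left_inj _).mp this
  · intro t
    obtain ⟨r, hr⟩ := ((hf.res hV).mem_iff ((divModι D).app V t)).mp t.2.2
    refine ⟨r, divModι_injective D V ?_⟩
    simp only [divModι_smul, divModι_gen]
    rw [← hr, Units.mul_inv_cancel_right]

theorem isInvertible_divMod (D : Divisor X) : PicF.IsInvertible (divMod D) := by
  rw [isInvertible_iff]
  intro x
  obtain ⟨U, hx, f, hf⟩ := exists_local D x
  exact ⟨U, gen hf, hx, isGen_gen hf⟩

/-! ### Linear equivalence -/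

lemma divCond_mul {D E : Divisor X} {x : X} {t t' : KStalk X x} (h : DivCond D x t)
    (h' : DivCond E x t') : DivCond (D * E) x (t * t') := by
  obtain ⟨g, hg⟩ := QuotientGroup.mk_surjective (D.1 x)
  obtain ⟨g', hg'⟩ := QuotientGroup.mk_surjective (E.1 x)
  rw [divCond_iff (D * E) (g := g * g')
    (by change D.1 x * E.1 x = _; rw [← hg, ← hg', QuotientGroup.mk_mul])]
  rw [Units.val_mul, mul_mul_mul_comm]
  exact mul_mem (h g hg.symm) (h' g' hg'.symm)

/-- Multiplication by `f` maps `O_X(D)` to `O_X(E)` when `E = D · div(f⁻¹)`. -/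
noncomputable def mulHom {D E : Divisor X} (f : (Γ(kmod X, ⊤))ˣ) (h : D = E * div f) :
    divMod D ⟶ divMod E :=
  mkHom (fun U =>
    { toFun := fun t => mkSec E ((divModι D).app U t * res (kmod X) le_top f) (fun x => by
        obtain ⟨g, hg⟩ := QuotientGroup.mk_surjective (E.1 x.1)
        have h1 : D.1 x.1 = QuotientGroup.mk (g * uval f ⟨x.1, trivial⟩) := by
          rw [h, QuotientGroup.mk_mul, hg]; rfl
        rw [divCond_iff E hg.symm]
        have := t.2.2 x _ h1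
        rw [Units.val_mul] at this
        convert this using 1
        change t.1 x * (f : Γ(kmod X, ⊤)).1 ⟨x.1, trivial⟩ * g = t.1 x * (g * (f : Γ(kmod X, ⊤)).1 ⟨x.1, trivial⟩)
        ring)
      map_zero' := Subtype.ext (funext fun x => zero_mul _)
      map_add' := fun _ _ => Subtype.ext (funext fun x => add_mul _ _ _) })
    (fun U a m => Subtype.ext (funext fun x => by
      change (X.presheaf.germ U x.1 x.2 a • m.1 x) * _ = X.presheaf.germ U x.1 x.2 a • (m.1 x * _)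
      rw [smul_mul_assoc]))
    (fun U V h m => rfl)

lemma mulHom_app {D E : Divisor X} (f : (Γ(kmod X, ⊤))ˣ) (h : D = E * div f) {U : X.Opens}
    (t : Γ(divMod D, U)) (x : U) :
    ((mulHom f h).app U t).1 x = t.1 x * (f : Γ(kmod X, ⊤)).1 ⟨x.1, trivial⟩ := rfl

lemma div_inv (f : (Γ(kmod X, ⊤))ˣ) : div f⁻¹ = (div f)⁻¹ := divisor_ext fun _ => rfl

noncomputable def mulIso {D E : Divisor X} (f : (Γ(kmod X, ⊤))ˣ) (h : D = E * div f) :
    divMod D ≅ divMod E where
  hom := mulHom f h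
  inv := mulHom f⁻¹ (by rw [h, div_inv, mul_inv_cancel_right])
  hom_inv_id := by
    apply Scheme.Modules.hom_ext
    intro U
    ext t
    refine Subtype.ext (funext fun x => ?_)
    change (t.1 x * (f : Γ(kmod X, ⊤)).1 ⟨x.1, trivial⟩) * ((f⁻¹ : (Γ(kmod X, ⊤))ˣ) : Γ(kmod X, ⊤)).1 ⟨x.1, trivial⟩ = t.1 x
    rw [mul_assoc, ← kmod_mul_apply, Units.mul_inv, kmod_one_apply, mul_one]
  inv_hom_id := by
    apply Scheme.Modules.hom_ext
    intro U
    ext t
    refine Subtype.ext (funext fun x => ?_)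
    change (t.1 x * ((f⁻¹ : (Γ(kmod X, ⊤))ˣ) : Γ(kmod X, ⊤)).1 ⟨x.1, trivial⟩) * (f : Γ(kmod X, ⊤)).1 ⟨x.1, trivial⟩ = t.1 x
    rw [mul_assoc, ← kmod_mul_apply, Units.inv_mul, kmod_one_apply, mul_one]

theorem nonempty_iso_of_linEquiv {D E : Divisor X} (h : LinEquiv D E) :
    Nonempty (divMod D ≅ divMod E) := by
  obtain ⟨f, hf⟩ := h
  exact ⟨mulIso f (by rw [← hf, dmul_comm, inv_mul_cancel_right])⟩

/-- The fractional ideal determines the divisor. -/
theorem eq_of_divCond_iff {D E : Divisor X}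
    (h : ∀ (U : X.Opens) (t : Γ(kmod X, U)),
      (∀ x : U, DivCond D x.1 (t.1 x)) ↔ (∀ x : U, DivCond E x.1 (t.1 x))) : D = E := by
  refine divisor_ext fun x => ?_
  obtain ⟨U, hx, f, hf⟩ := exists_local D x
  obtain ⟨V, hx', g, hg⟩ := exists_local E x
  have hf' := hf.res (inf_le_left : U ⊓ V ≤ U)
  have hg' := hg.res (inf_le_right : U ⊓ V ≤ V)
  set W := U ⊓ V
  set f' := ures (inf_le_left : U ⊓ V ≤ U) f
  set g' := ures (inf_le_right : U ⊓ V ≤ V) g
  obtain ⟨r, hr⟩ := (hg'.mem_iff _).mp ((h W (f'⁻¹ : (Γ(kmod X, W))ˣ)).mp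
    ((hf'.mem_iff _).mpr ⟨1, by rw [Units.inv_mul, map_one]⟩))
  obtain ⟨s, hs⟩ := (hf'.mem_iff _).mp ((h W (g'⁻¹ : (Γ(kmod X, W))ˣ)).mpr
    ((hg'.mem_iff _).mpr ⟨1, by rw [Units.inv_mul, map_one]⟩))
  have hrs : r * s = 1 := toK_injective W (by
    rw [map_mul, ← hr, ← hs, map_one, ← Units.val_mul, ← Units.val_mul, ← Units.val_mul]
    simp)
  have key : IsLoc D W g' := (isLoc_iff hf').mpr ⟨⟨r, s, hrs, by rw [mul_comm]; exact hrs⟩, by
    change _ = toK X W r * _
    rw [← hr, ← Units.val_mul, ← Units.val_mul]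
    simp⟩
  exact (key ⟨x, ⟨hx, hx'⟩⟩).trans (hg' ⟨x, ⟨hx, hx'⟩⟩).symm

end K149.Div
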