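import Groth.Agent.Mero.K149.Ass
import Groth.Agent.CycB.LocQuot

/-!
# Pullback of regular functions
-/

set_option autoImplicit false
universe u

open CategoryTheory CategoryTheory.Limits AlgebraicGeometry Opposite TopologicalSpace
open Groth.Agent.Fdesc.LocGen

namespace K149.PullReg

open Mero K149.Basic K149.Affine K149.Ass K149.MaxPt

variable {X Y : Scheme.{u}}

lemma og_app (f : X ⟶ Y) {U : Y.Opens} (s : Γ(Y, U)) (x : (f ⁻¹ᵁ U : X.Opens)) :
    og x (f.app U s) = (f.stalkMap x.1).hom (og (U := U) ⟨f x.1, x.2⟩ s) :=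
  (f.germ_stalkMap_apply U x.1 x.2 s).symm

/-- Pullback of regular functions when associated points map to associated points. -/
theorem app_mem_regSub [IsLocallyNoetherian X] [IsLocallyNoetherian Y] (f : X ⟶ Y)
    (hf : ∀ x : X, IsAss x → IsAss (f x)) (U : Y.Opens) (s : Γ(Y, U)) (hs : s ∈ regSub Y U) :
    f.app U s ∈ regSub X (f ⁻¹ᵁ U) := by
  intro x
  by_contra hcon
  obtain ⟨y, -, hy, hu⟩ := exists_isAss_of_not_regular x hcon
  apply hu
  rw [og_app]
  exact (isUnit_of_isAss (hf y.1 hy) (hs ⟨f y.1, y.2⟩)).map _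

/-- A reduced local ring: a zero divisor lies in a minimal prime. -/
lemma exists_minimalPrime_of_not_regular {A : Type u} [CommRing A] [IsReduced A] {b : A}
    (hb : b ∉ nonZeroDivisors A) : ∃ p ∈ minimalPrimes A, b ∈ p := by
  rw [mem_nonZeroDivisors_iff_right] at hb
  push Not at hb
  obtain ⟨c, hc, hc0⟩ := hb
  by_contra hcon
  push Not at hcon
  apply hc0
  have h1 : c ∈ (⊥ : Ideal A).radical := by
    rw [← Ideal.sInf_minimalPrimes, Ideal.mem_sInf]
    intro p hp
    have h2 : c * b ∈ p := hc ▸ p.zero_mem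
    exact (hp.1.1.mem_or_mem h2).resolve_right (hcon p hp)
  obtain ⟨n, hn⟩ := h1
  have h2 : IsNilpotent c := ⟨n, hn⟩
  exact h2.eq_zero

open Groth.Agent.CycB.LocQuot in
/-- A generization of `x` corresponding to a minimal prime of the local ring is a maximal point. -/
lemma isMaxPt_ptOf {x : X} (P : PrimeSpectrum (X.presheaf.stalk x))
    (hP : P.asIdeal ∈ minimalPrimes (X.presheaf.stalk x)) : IsMaxPt (ptOf P) := by
  intro z hz
  have hzx : z ⤳ x := hz.trans (ptOf_specializes P)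
  have h1 : primeOf hzx ≤ P := by
    have := (primeOf_le_iff hzx (ptOf_specializes P)).mpr hz
    rwa [primeOf_ptOf] at this
  have h2 : primeOf hzx = P := le_antisymm h1 (hP.2 ⟨(primeOf hzx).2, bot_le⟩ h1)
  rw [← h2, ptOf_primeOf]

open Groth.Agent.CycB.LocQuot in
/-- In a reduced scheme, a function with zero divisor germ at `x` is a nonunit at a maximal generization. -/
theorem exists_maxPt_of_not_regular [IsReduced X] {U : X.Opens} (x : U) {b : Γ(X, U)}
    (hb : og x b ∉ nonZeroDivisors (X.presheaf.stalk x.1)) :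
    ∃ y : U, y.1 ⤳ x.1 ∧ IsMaxPt y.1 ∧ ¬ IsUnit (og y b) := by
  obtain ⟨p, hp, hbp⟩ := exists_minimalPrime_of_not_regular hb
  let P : PrimeSpectrum (X.presheaf.stalk x.1) := ⟨p, hp.1.1⟩
  refine ⟨⟨ptOf P, (ptOf_specializes P).mem_open U.2 x.2⟩, ptOf_specializes P, isMaxPt_ptOf P hp, ?_⟩
  intro hu
  have h1 : og (U := U) ⟨ptOf P, (ptOf_specializes P).mem_open U.2 x.2⟩ b =
      (X.presheaf.stalkSpecializes (ptOf_specializes P)).hom (og x b) := by
    change _ = (X.presheaf.stalkSpecializes (ptOf_specializes P)).hom (X.presheaf.germ U x.1 x.2 b)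
    rw [TopCat.Presheaf.germ_stalkSpecializes_apply]
    rfl
  rw [h1] at hu
  have h2 : og x b ∉ P.asIdeal := by
    rw [← primeOf_ptOf P, primeOf_asIdeal, mem_ker_specMap_iff]
    exact not_not.mpr hu
  exact h2 hbp

/-- The local ring at a maximal point has only nilpotent nonunits. -/
lemma isNilpotent_of_isMaxPt {x : X} (hx : IsMaxPt x) {t : X.presheaf.stalk x} (ht : ¬ IsUnit t) :
    IsNilpotent t := by
  rw [nilpotent_iff_mem_prime]
  intro J hJ
  have h1 : Groth.Agent.CycB.LocQuot.ptOf (⟨J, hJ⟩ : PrimeSpectrum (X.presheaf.stalk x)) = x :=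
    hx _ (Groth.Agent.CycB.LocQuot.ptOf_specializes _)
  have h2 : (⟨J, hJ⟩ : PrimeSpectrum (X.presheaf.stalk x)) =
      IsLocalRing.closedPoint (X.presheaf.stalk x) := by
    apply Groth.Agent.CycB.LocQuot.ptOf_injective x
    rw [h1]
    exact (Scheme.fromSpecStalk_closedPoint).symm
  have h3 : J = IsLocalRing.maximalIdeal (X.presheaf.stalk x) := congrArg PrimeSpectrum.asIdeal h2
  rw [h3]
  exact ht

lemma isUnit_of_isMaxPt {x : X} (hx : IsMaxPt x) {t : X.presheaf.stalk x}
    (ht : t ∈ nonZeroDivisors (X.presheaf.stalk x)) : IsUnit t := by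
  by_contra hcon
  obtain ⟨n, hn⟩ := isNilpotent_of_isMaxPt hx hcon
  have h1 : (0 : X.presheaf.stalk x) ∈ nonZeroDivisors (X.presheaf.stalk x) := hn ▸ pow_mem ht n
  exact zero_notMem_nonZeroDivisors h1

theorem app_mem_regSub_of_reduced [IsReduced X] (f : X ⟶ Y)
    (hf : ∀ x : X, IsMaxPt x → IsMaxPt (f x)) (U : Y.Opens) (s : Γ(Y, U)) (hs : s ∈ regSub Y U) :
    f.app U s ∈ regSub X (f ⁻¹ᵁ U) := by
  intro x
  by_contra hcon
  obtain ⟨y, -, hy, hu⟩ := exists_maxPt_of_not_regular x hcon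
  apply hu
  rw [og_app]
  exact (isUnit_of_isMaxPt (hf y.1 hy) (hs ⟨f y.1, y.2⟩)).map _

end K149.PullReg
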