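import Groth.Agent.Mero.K149.Ass
import Groth.Agent.Mero.K149.Div
import Groth.Agent.Mero.K149.PullReg
import Groth.Agent.Ega4B.DepthFinite
import Mathlib.RingTheory.KrullDimension.Zero

/-!
# Divisors and points of depth one
-/

set_option autoImplicit false
universe u

open CategoryTheory CategoryTheory.Limits AlgebraicGeometry Opposite TopologicalSpace
open Groth.Agent.Fdesc.LocGen

namespace K149.Depth

open Mero K149.Basic K149.Affine K149.Ass K149.MaxPt K149.Div

variable {X : Scheme.{u}}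

/-! ### Algebra -/

section Alg

open IsLocalRing Groth.Agent.Ega4B.DepthBasic Groth.Agent.Ega4B.DepthFinite

lemma smul_top_ne_top (R : Type u) [CommRing R] [IsLocalRing R] :
    (maximalIdeal R) • (⊤ : Submodule R R) ≠ ⊤ := by
  rw [smul_eq_mul, Ideal.mul_top]
  exact (inferInstance : (maximalIdeal R).IsPrime).ne_top

lemma one_le_depth_iff' (R : Type u) [CommRing R] [IsLocalRing R] :
    1 ≤ LocCoh.depth R R ↔ ∃ b ∈ maximalIdeal R, b ∈ nonZeroDivisors R := by
  rw [LocCoh.depth, one_le_idealDepth_iff_exists _ _ (smul_top_ne_top R)]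
  refine exists_congr fun b => and_congr_right fun _ => ?_
  rw [mem_nonZeroDivisors_iff_left, isSMulRegular_iff_right_eq_zero_of_smul]
  rfl

lemma depth_eq_zero_iff (R : Type u) [CommRing R] [IsLocalRing R] :
    LocCoh.depth R R = 0 ↔ ∀ b ∈ maximalIdeal R, b ∉ nonZeroDivisors R := by
  rw [← not_iff_not, ← ne_eq, ← Order.one_le_iff_ne_zero, one_le_depth_iff']
  push Not
  rfl

/-- If `b ∈ 𝔪` is regular and `𝔪 c ⊆ bR` for some `c ∉ bR` then the depth is one. -/
lemma depth_eq_one (R : Type u) [CommRing R] [IsLocalRing R] [IsNoetherianRing R] {b c : R}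
    (hb : b ∈ nonZeroDivisors R) (hbm : b ∈ maximalIdeal R) (hc : ¬ b ∣ c)
    (h : ∀ a ∈ maximalIdeal R, b ∣ a * c) : LocCoh.depth R R = 1 := by
  have hreg : IsSMulRegular R b := by
    rw [isSMulRegular_iff_right_eq_zero_of_smul]
    intro x hx
    exact (mem_nonZeroDivisors_iff_left.mp hb) x hx
  have h1 := depth_quotSMulTop_add_one R b hbm hreg
  have h2 : ¬ (1 ≤ LocCoh.depth R (QuotSMulTop b R)) := by
    rw [one_le_depth_iff, not_not]
    refine ⟨inferInstance, (Submodule.Quotient.mk c : QuotSMulTop b R), ?_⟩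
    have key : ∀ x : R, (Submodule.Quotient.mk x : QuotSMulTop b R) = 0 ↔ b ∣ x := by
      intro x
      rw [Submodule.Quotient.mk_eq_zero]
      constructor
      · rintro ⟨y, -, rfl⟩
        exact ⟨y, rfl⟩
      · rintro ⟨y, rfl⟩
        exact ⟨y, trivial, rfl⟩
    have h3 : (⊥ : Submodule R (QuotSMulTop b R)).colon {(Submodule.Quotient.mk c : QuotSMulTop b R)} =
        maximalIdeal R := by
      ext a
      rw [Submodule.mem_colon_singleton, Submodule.mem_bot]
      change (Submodule.Quotient.mk (a * c) : QuotSMulTop b R) = 0 ↔ _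
      rw [key]
      constructor
      · intro ha
        by_contra hcon
        have hu : IsUnit a := by
          by_contra hnu
          exact hcon hnu
        exact hc (hu.dvd_mul_left.mp ha)
      · exact h a
    rw [h3]
    exact (Ideal.IsPrime.radical inferInstance).symm
  rw [not_le, Order.lt_one_iff] at h2
  rw [← h1, h2, zero_add]

end Alg

/-! ### Effective divisors -/

lemma isUnit_toK_apply_of_unit {U : X.Opens} (x : U) {a : Γ(X, U)} (b : regSub X U)
    (h : IsUnit ((frac a b).1 x)) : og x a ∈ nonZeroDivisors (X.presheaf.stalk x.1) := by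
  rw [mem_nonZeroDivisors_iff_right]
  intro c hc
  apply algebraMap_KStalk_injective
  rw [map_zero]
  refine h.mul_left_eq_zero.mp ?_
  rw [frac_apply', ← Localization.mk_one_eq_algebraMap]
  change (LocalizedModule.mk c 1 : KStalk X x.1) * LocalizedModule.mk (og x a) (regGerm x b) = 0
  refine LocalizedModule.mk_mul_mk.trans ?_
  rw [hc, LocalizedModule.zero_mk]

/-- A divisor is locally `a / b` with `a` and `b` regular. -/
lemma exists_local_frac (D : Divisor X) (x : X) : ∃ (U : X.Opens) (_ : IsAffineOpen U) (_ : x ∈ U)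
    (a b : regSub X U), ∃ f : (Γ(kmod X, U))ˣ, (f : Γ(kmod X, U)) = frac a.1 b ∧ IsLoc D U f := by
  obtain ⟨U, hx, f, hf⟩ := exists_local D x
  obtain ⟨V, hVa, hV, -, hxV, a, b, hab⟩ := exists_frac_affine (f : Γ(kmod X, U)) ⟨x, hx⟩ U hx
  refine ⟨V, hVa, hxV, ⟨a, fun y => ?_⟩, b, ures hV f, hab, hf.res hV⟩
  refine isUnit_toK_apply_of_unit y b ?_
  rw [← hab]
  exact (ures hV f).isUnit.map (evalK X V y)

/-- `div (a / b)` is effective at `y` iff `b_y` divides `a_y`. -/
lemma isEffectiveAt_iff {D : Divisor X} {U : X.Opens} {a b : regSub X U} {f : (Γ(kmod X, U))ˣ}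
    (hab : (f : Γ(kmod X, U)) = frac a.1 b) (hf : IsLoc D U f) (y : U) (hreg : ∀ t : X.presheaf.stalk y.1,
      t ∈ nonZeroDivisors (X.presheaf.stalk y.1) → t ∈ regStalk X y.1) :
    IsEffectiveAt D y.1 ↔ og y b.1 ∣ og y a.1 := by
  have hspec : (f : Γ(kmod X, U)).1 y * algebraMap _ _ (og y b.1) = algebraMap _ (KStalk X y.1) (og y a.1) := by
    rw [hab, ← toK_apply', ← toK_apply', ← kmod_mul_apply, frac_mul_toK]
  constructor
  · rintro ⟨c, hc⟩
    rw [hf y, eq_comm, mk_eq_mk_iff] at hc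
    obtain ⟨u, hu⟩ := hc
    rw [uval_val, IsUnit.unit_spec, ← map_mul] at hu
    rw [hu, ← map_mul] at hspec
    refine ⟨(u : X.presheaf.stalk y.1) * c.1, ?_⟩
    rw [mul_comm, algebraMap_KStalk_injective y.1 hspec]
  · rintro ⟨c, hc⟩
    have hcreg : c ∈ nonZeroDivisors (X.presheaf.stalk y.1) := by
      have h1 : og y a.1 ∈ nonZeroDivisors (X.presheaf.stalk y.1) := a.2 y
      rw [hc] at h1
      exact (mul_mem_nonZeroDivisors.mp h1).2
    refine ⟨⟨c, hreg c hcreg⟩, ?_⟩
    rw [hf y, eq_comm, mk_eq_mk_iff]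
    refine ⟨1, ?_⟩
    rw [uval_val, IsUnit.unit_spec, Units.val_one, map_one, one_mul]
    have h1 : IsUnit (algebraMap _ (KStalk X y.1) (og y b.1)) := by
      rw [← toK_apply']
      exact (isUnit_toK b.2).map (evalK X U y)
    apply h1.mul_right_cancel
    rw [hspec, hc, map_mul, mul_comm]

/-- If `D` is not effective at `x`, it is not effective at a generization of depth one. -/
theorem exists_depth_one_of_not_effective [IsLocallyNoetherian X] (D : Divisor X) {x : X}
    (hx : ¬ IsEffectiveAt D x) : ∃ y : X, y ⤳ x ∧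
      LocCoh.depth (X.presheaf.stalk y) (X.presheaf.stalk y) = 1 ∧ ¬ IsEffectiveAt D y := by
  obtain ⟨U, hU, hxU, a, b, f, hab, hf⟩ := exists_local_frac D x
  have := isNoetherianRing_of_isAffineOpen hU
  have hreg : ∀ y : U, ∀ t : X.presheaf.stalk y.1,
      t ∈ nonZeroDivisors (X.presheaf.stalk y.1) → t ∈ regStalk X y.1 := fun y t ht => by
    rw [regStalk_eq]; exact ht
  have heff : ∀ y : U, IsEffectiveAt D y.1 ↔ og y b.1 ∣ og y a.1 := fun y =>
    isEffectiveAt_iff hab hf y (hreg y)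
  -- divisibility at a point
  have hdvd : ∀ (y : U) (c : Γ(X, U)), og y b.1 ∣ og y c ↔
      ∃ t : Γ(X, U), t ∉ (hU.primeIdealOf y).asIdeal ∧ b.1 ∣ t * c := by
    intro y c
    constructor
    · rintro ⟨d, hd⟩
      obtain ⟨d', t, ht, hdt⟩ := og_surj hU y d
      have h1 : og y (t * c - b.1 * d') = 0 := by
        rw [map_sub, map_mul, map_mul, ← hdt, hd]; ring
      obtain ⟨s, hs, hs0⟩ := (og_eq_zero_iff hU y _).mp h1
      refine ⟨s * t, (hU.primeIdealOf y).2.mul_notMem hs ht, s * d', ?_⟩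
      have h2 : s * (t * c) = s * (b.1 * d') := by rw [← sub_eq_zero, ← mul_sub]; exact hs0
      calc s * t * c = s * (t * c) := by ring
        _ = s * (b.1 * d') := h2
        _ = b.1 * (s * d') := by ring
    · rintro ⟨t, ht, d, hd⟩
      have hu : IsUnit (og y t) := (isUnit_og_iff hU y t).mpr ht
      have h1 := congrArg (og y) hd
      rw [map_mul, map_mul] at h1
      exact hu.dvd_mul_left.mp ⟨og y d, h1⟩
  -- the module A / b
  let M := Γ(X, U) ⧸ Ideal.span {b.1}
  have hM : ∀ (c r : Γ(X, U)), r • (Ideal.Quotient.mk (Ideal.span {b.1}) c : M) = 0 ↔ b.1 ∣ r * c := by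
    intro c r
    rw [Algebra.smul_def, Ideal.Quotient.algebraMap_eq, ← map_mul, Ideal.Quotient.eq_zero_iff_dvd]
  let I : Ideal Γ(X, U) := (⊥ : Submodule Γ(X, U) M).colon {(Ideal.Quotient.mk (Ideal.span {b.1}) a.1 : M)}
  have hI : ∀ r, r ∈ I ↔ b.1 ∣ r * a.1 := fun r => by
    rw [Submodule.mem_colon_singleton, Submodule.mem_bot, hM]
  have hIx : I ≤ (hU.primeIdealOf ⟨x, hxU⟩).asIdeal := by
    intro r hr
    by_contra hcon
    exact hx ((heff ⟨x, hxU⟩).mpr ((hdvd _ _).mpr ⟨r, hcon, (hI r).mp hr⟩))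
  obtain ⟨P, hPmin, hPx⟩ := Ideal.exists_minimalPrimes_le hIx
  have hPp : P.IsPrime := hPmin.1.1
  obtain ⟨c, hc⟩ : ∃ c : M, P = (⊥ : Submodule Γ(X, U) M).colon {c} := by
    obtain ⟨c, hc⟩ := Submodule.exists_eq_colon_of_mem_minimalPrimes hPmin
    exact ⟨c, hc⟩
  obtain ⟨c, rfl⟩ := Ideal.Quotient.mk_surjective c
  have hPc : ∀ r, r ∈ P ↔ b.1 ∣ r * c := fun r => by
    rw [hc, Submodule.mem_colon_singleton, Submodule.mem_bot]
    exact hM c r
  obtain ⟨y, hy⟩ := exists_point hU P
  refine ⟨y.1, ?_, ?_, ?_⟩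
  · refine (primeIdealOf_le_iff hU y ⟨x, hxU⟩).mp ?_
    change (hU.primeIdealOf y).asIdeal ≤ _
    rw [hy]; exact hPx
  · refine depth_eq_one _ (b := og y b.1) (c := og y c) (b.2 y) ?_ ?_ ?_
    · rw [mem_maximalIdeal_og_iff hU, hy, hPc]
      exact ⟨c, rfl⟩
    · rw [hdvd]
      rintro ⟨t, ht, htc⟩
      rw [hy] at ht
      exact ht ((hPc t).mpr htc)
    · intro r hr
      obtain ⟨r', t, ht, hrt⟩ := og_surj hU y r
      have hu : IsUnit (og y t) := (isUnit_og_iff hU y t).mpr ht
      have h1 : r' ∈ P := by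
        rw [← hy, ← mem_maximalIdeal_og_iff hU, ← hrt]
        exact Ideal.mul_mem_left _ _ hr
      obtain ⟨d, hd⟩ := (hPc r').mp h1
      refine hu.dvd_mul_left.mp ⟨og y d, ?_⟩
      rw [← map_mul, ← hd, map_mul, ← hrt, mul_assoc]
  · rw [heff, hdvd]
    rintro ⟨t, ht, hta⟩
    rw [hy] at ht
    exact ht (hPmin.1.2 ((hI t).mpr hta))

theorem isEffective_of_depth_one [IsLocallyNoetherian X] (D : Divisor X)
    (h : ∀ x : X, LocCoh.depth (X.presheaf.stalk x) (X.presheaf.stalk x) = 1 → IsEffectiveAt D x) :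
    IsEffective D := by
  intro x
  by_contra hx
  obtain ⟨y, -, hd, hy⟩ := exists_depth_one_of_not_effective D hx
  exact hy (h y hd)

lemma isEffectiveAt_of_eq_one {D : Divisor X} {x : X} (h : D.1 x = 1) : IsEffectiveAt D x := by
  refine ⟨1, ?_⟩
  rw [h, eq_comm, mk_eq_one_iff]
  refine ⟨1, ?_⟩
  rw [IsUnit.unit_spec]
  rfl

/-- A germ of divisor which is effective with effective inverse is trivial. -/
lemma eq_one_of_effective {D : Divisor X} {x : X} (h : IsEffectiveAt D x) (h' : IsEffectiveAt D⁻¹ x) :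
    D.1 x = 1 := by
  obtain ⟨a, ha⟩ := h
  obtain ⟨b, hb⟩ := h'
  have hb' : (D.1 x)⁻¹ = _ := hb
  rw [ha, ← QuotientGroup.mk_inv, mk_eq_mk_iff] at hb'
  obtain ⟨u, hu⟩ := hb'
  rw [IsUnit.unit_spec] at hu
  rw [ha, mk_eq_one_iff]
  have h1 : algebraMap _ (KStalk X x) ((b : X.presheaf.stalk x) * (a : X.presheaf.stalk x)) =
      algebraMap _ (KStalk X x) (u : X.presheaf.stalk x) := by
    rw [map_mul, hu, mul_assoc]
    have : ((IsLocalization.map_units (KStalk X x) a).unit⁻¹ : (KStalk X x)ˣ) *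
      algebraMap _ (KStalk X x) (a : X.presheaf.stalk x) = 1 :=
        (IsLocalization.map_units (KStalk X x) a).val_inv_mul
    rw [this, mul_one]
  have h2 := algebraMap_KStalk_injective x h1
  have h3 : IsUnit (a : X.presheaf.stalk x) := isUnit_of_mul_isUnit_right (h2 ▸ u.isUnit)
  refine ⟨h3.unit, ?_⟩
  rw [IsUnit.unit_spec, IsUnit.unit_spec]

theorem eq_one_of_depth_one [IsLocallyNoetherian X] (D : Divisor X)
    (h : ∀ x : X, LocCoh.depth (X.presheaf.stalk x) (X.presheaf.stalk x) = 1 → D.1 x = 1) : D = 1 := by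
  refine divisor_ext fun x => eq_one_of_effective
    (isEffective_of_depth_one D (fun y hy => isEffectiveAt_of_eq_one (h y hy)) x)
    (isEffective_of_depth_one D⁻¹ (fun y hy => isEffectiveAt_of_eq_one ?_) x)
  change (D.1 y)⁻¹ = 1
  rw [h y hy, inv_one]

/-- A maximal point of the support of a divisor has depth one. -/
theorem depth_of_maximal [IsLocallyNoetherian X] (D : Divisor X) (x : X) (hx : x ∈ supp D)
    (hmax : ∀ z : X, z ∈ supp D → z ⤳ x → z = x) :
    LocCoh.depth (X.presheaf.stalk x) (X.presheaf.stalk x) = 1 := by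
  have h1 : ¬ IsEffectiveAt D x ∨ ¬ IsEffectiveAt D⁻¹ x := by
    by_contra hcon
    push Not at hcon
    exact hx (eq_one_of_effective hcon.1 hcon.2)
  rcases h1 with h | h
  · obtain ⟨y, hyx, hd, hy⟩ := exists_depth_one_of_not_effective D h
    have := hmax y (fun h1 => hy (isEffectiveAt_of_eq_one h1)) hyx
    rw [← this]; exact hd
  · obtain ⟨y, hyx, hd, hy⟩ := exists_depth_one_of_not_effective D⁻¹ h
    have := hmax y (fun h1 => hy (isEffectiveAt_of_eq_one (by
      change (D.1 y)⁻¹ = 1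
      rw [h1, inv_one]))) hyx
    rw [← this]; exact hd

/-- If all nonzerodivisors of the local ring are units then germs of divisors are trivial. -/
lemma eq_one_of_forall_isUnit (D : Divisor X) (x : X)
    (h : ∀ t : X.presheaf.stalk x, t ∈ nonZeroDivisors (X.presheaf.stalk x) → IsUnit t) : D.1 x = 1 := by
  obtain ⟨g, hg⟩ := QuotientGroup.mk_surjective (D.1 x)
  rw [← hg, mk_eq_one_iff]
  obtain ⟨a, b, hab⟩ := IsLocalization.exists_mk'_eq (regStalk X x) (g : KStalk X x)
  have hb : IsUnit (b : X.presheaf.stalk x) := h _ (regStalk_le_nonZeroDivisors x b.2)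
  obtain ⟨c, hc⟩ := hb.exists_right_inv
  have h1 : (g : KStalk X x) = algebraMap _ _ (a * c) := by
    rw [← hab, IsLocalization.mk'_eq_iff_eq_mul, ← map_mul, mul_assoc, mul_comm c, hc, mul_one]
  have h2 : a * c ∈ nonZeroDivisors (X.presheaf.stalk x) := by
    rw [mem_nonZeroDivisors_iff_right]
    intro d hd
    apply algebraMap_KStalk_injective
    rw [map_zero]
    refine g.isUnit.mul_left_eq_zero.mp ?_
    rw [h1, ← map_mul, hd, map_zero]
  exact ⟨(h _ h2).unit, h1⟩

theorem one_le_ringKrullDim (D : Divisor X) (z : X) (hz : z ∈ supp D) :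
    (1 : WithBot ℕ∞) ≤ ringKrullDim (X.presheaf.stalk z) := by
  by_contra hcon
  apply hz
  have h0 : Ring.KrullDimLE 0 (X.presheaf.stalk z) := by
    rw [not_le] at hcon
    rw [Ring.krullDimLE_iff]
    exact ENat.WithBot.lt_add_one_iff.mp (by simpa using hcon)
  refine eq_one_of_forall_isUnit D z fun t ht => ?_
  by_contra hnu
  have hmem : t ∈ IsLocalRing.maximalIdeal (X.presheaf.stalk z) := hnu
  have h1 : IsNilpotent t := by
    rw [nilpotent_iff_mem_prime]
    intro J hJ
    have : J.IsMaximal := inferInstance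
    rw [IsLocalRing.eq_maximalIdeal this]
    exact hmem
  obtain ⟨n, hn⟩ := h1
  exact zero_notMem_nonZeroDivisors (hn ▸ pow_mem ht n : (0 : X.presheaf.stalk z) ∈ nonZeroDivisors _)

end K149.Depth
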