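import Groth.Agent.Mero.K149.Affine
import Groth.Agent.Mero.K149.MaxPt

/-!
# Functions on schematically dense opens are meromorphic

* `LocFinAss X` : affine opens `V` with `FinAss Γ(X, V)` form a basis; holds for locally Noetherian schemes and for
  reduced schemes with locally finite components (`locFinAss_of`).
* `exists_regular_basicOpen`, `exists_ext` (extension of a function), `kmod_bijective`.
-/

set_option autoImplicit false
universe u

open CategoryTheory CategoryTheory.Limits AlgebraicGeometry Opposite TopologicalSpace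
open Groth.Agent.Fdesc.LocGen

namespace K149.Pseudo

open Mero K149.Basic K149.Affine K149.MaxPt

variable {X : Scheme.{u}}

/-- A schematically dense open of `V` affine with `FinAss` contains `D(b)` with `b` regular. -/
theorem exists_regular_basicOpen {V : X.Opens} (hV : IsAffineOpen V) (hA : FinAss Γ(X, V))
    {D : X.Opens} (hD : SDense D V) : ∃ b ∈ regSub X V, X.basicOpen b ≤ D := by
  let I : Ideal Γ(X, V) :=
    { carrier := {b | X.basicOpen b ≤ D}
      add_mem' := fun {a b} ha hb => by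
        intro x hx
        have hxV : x ∈ V := X.basicOpen_le _ hx
        rw [Scheme.mem_basicOpen _ _ _ hxV, map_add] at hx
        rcases IsLocalRing.isUnit_or_isUnit_of_isUnit_add hx with h | h
        · exact ha ((Scheme.mem_basicOpen _ _ _ hxV).mpr h)
        · exact hb ((Scheme.mem_basicOpen _ _ _ hxV).mpr h)
      zero_mem' := by
        change X.basicOpen (0 : Γ(X, V)) ≤ D
        simp
      smul_mem' := fun c {b} hb => by
        change X.basicOpen (c * b) ≤ D
        rw [Scheme.basicOpen_mul]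
        exact inf_le_right.trans hb }
  obtain ⟨b, hb, hreg⟩ := hA.exists_mem I (by
    intro a ha
    refine hD.eq_zero le_rfl (W := V) ?_
    refine oext fun x => ?_
    rw [og_ores, map_zero]
    obtain ⟨b, hbD, hxb⟩ := hV.exists_basicOpen_le (V := D) ⟨x.1, x.2.2⟩ x.2.1
    have h1 : IsUnit (og ⟨x.1, x.2.1⟩ b) := (Scheme.mem_basicOpen _ _ _ x.2.1).mp hxb
    have h2 := congrArg (og ⟨x.1, x.2.1⟩) (ha b hbD)
    rw [map_mul, map_zero] at h2
    exact h1.mul_right_eq_zero.mp h2)
  exact ⟨b, by rw [regSub_eq hV]; exact hreg, hb⟩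

/-- Affine opens with `FinAss` form a basis. -/
def LocFinAss (X : Scheme.{u}) : Prop :=
  ∀ (U : X.Opens) (x : X), x ∈ U → ∃ V : X.Opens, IsAffineOpen V ∧ x ∈ V ∧ V ≤ U ∧ FinAss Γ(X, V)

theorem locFinAss_of_locallyNoetherian (X : Scheme.{u}) [IsLocallyNoetherian X] : LocFinAss X := by
  intro U x hx
  obtain ⟨V, hV, hxV, hVU⟩ := exists_affine_le hx
  have := isNoetherianRing_of_isAffineOpen hV
  exact ⟨V, hV, hxV, hVU, finAss_of_noeth _⟩

theorem locFinAss_of_reduced (X : Scheme.{u}) [IsReduced X]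
    (h : ∀ x : X, ∃ W : X.Opens, x ∈ W ∧
      {Z : Set X | Z ∈ irreducibleComponents X ∧ (Z ∩ (W : Set X)).Nonempty}.Finite) :
    LocFinAss X := by
  intro U x hx
  obtain ⟨W, hxW, hW⟩ := h x
  obtain ⟨V, hV, hxV, hVU⟩ := exists_affine_le (U := U ⊓ W) ⟨hx, hxW⟩
  refine ⟨V, hV, hxV, hVU.trans inf_le_left, finAss_of_reduced _ (finite_minimalPrimes hV ?_)⟩
  exact (finite_maxPt hW).subset fun y hy => ⟨hy.1, (hVU hy.2).2⟩

theorem locFinAss_of (X : Scheme.{u})
    (hX : IsLocallyNoetherian X ∨ (IsReduced X ∧ ∀ x : X, ∃ W : X.Opens, x ∈ W ∧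
      {Z : Set X | Z ∈ irreducibleComponents X ∧ (Z ∩ (W : Set X)).Nonempty}.Finite)) :
    LocFinAss X := by
  rcases hX with h | ⟨h, h'⟩
  · exact locFinAss_of_locallyNoetherian X
  · exact locFinAss_of_reduced X h'

/-- Extension of a function from a schematically dense open, on an affine open with `FinAss`. -/
lemma exists_ext_affine {W V : X.Opens} (hW : IsAffineOpen W) (hA : FinAss Γ(X, W))
    (hd : SDense V W) (g : Γ(X, V)) :
    ∃ s : Γ(kmod X, W), res (kmod X) (inf_le_left : W ⊓ V ≤ W) s =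
      toK X (W ⊓ V) (ores inf_le_right g) := by
  obtain ⟨b, hb, hbV⟩ := exists_regular_basicOpen hW hA hd
  obtain ⟨n, a, ha⟩ := exists_eq_pow_mul_of_isAffineOpen X W hW b (ores hbV g)
  have ha' : ores (X.basicOpen_le b) a = ores (X.basicOpen_le b) b ^ n * ores hbV g := ha
  refine ⟨frac a ⟨b ^ n, pow_mem hb n⟩, ?_⟩
  have hle : X.basicOpen b ≤ W ⊓ V := le_inf (X.basicOpen_le b) hbV
  apply kmod_injective hle ((sdense_basicOpen hb).mono_right inf_le_left)
  rw [res_res, res_frac, res_toK, ores_ores]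
  symm
  rw [eq_frac_iff, ← map_mul]
  congr 1
  change ores _ g * ores _ (b ^ n) = _
  rw [ha', map_pow, mul_comm]

/-- A function on a schematically dense open extends to a meromorphic function. -/
theorem exists_ext (hX : LocFinAss X) {U V : X.Opens} (hVU : V ≤ U) (hV : SDense V U) (g : Γ(X, V)) :
    ∃ s : Γ(kmod X, U), res (kmod X) hVU s = toK X V g := by
  choose W hW hxW hWU hA using fun x : U => hX U x.1 x.2
  choose s hs using fun x : U => exists_ext_affine (hW x) (hA x) (hV.mono_right (hWU x)) g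
  have hcov : U ≤ ⨆ x, W x := fun x hxU => Opens.mem_iSup.mpr ⟨⟨x, hxU⟩, hxW ⟨x, hxU⟩⟩
  obtain ⟨t, ht⟩ := res_glue (kmod X) W hWU hcov s (by
    intro x y
    have hd : SDense ((W x ⊓ W y) ⊓ V) (W x ⊓ W y) := hV.inf (inf_le_left.trans (hWU x))
    apply kmod_injective inf_le_left hd
    have h1 := congrArg (res (kmod X) (inf_le_inf inf_le_left le_rfl : (W x ⊓ W y) ⊓ V ≤ W x ⊓ V)) (hs x)
    have h2 := congrArg (res (kmod X) (inf_le_inf inf_le_right le_rfl : (W x ⊓ W y) ⊓ V ≤ W y ⊓ V)) (hs y)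
    simp only [res_res, res_toK, ores_ores] at h1 h2 ⊢
    rw [h1, h2])
  refine ⟨t, ?_⟩
  have hcov' : V ≤ ⨆ x : U, V ⊓ W x := by
    rw [← inf_iSup_eq]; exact le_inf le_rfl (hVU.trans hcov)
  refine res_ext (kmod X) (fun x : U => V ⊓ W x) (fun x => inf_le_left) hcov' fun x => ?_
  have h1 := congrArg (res (kmod X) (inf_comm (W x) V ▸ le_rfl : V ⊓ W x ≤ W x ⊓ V)) (hs x)
  simp only [res_res, res_toK, ores_ores, ← ht] at h1 ⊢
  exact h1

/-- Meromorphic functions on `U` and on a schematically dense open `V` of `U` are the same. -/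
theorem kmod_bijective (hX : LocFinAss X) {U V : X.Opens} (hVU : V ≤ U) (hV : SDense V U) :
    Function.Bijective (res (kmod X) hVU) := by
  refine ⟨kmod_injective hVU hV, fun k => ?_⟩
  obtain ⟨D, hDV, hD, hDd⟩ := exists_domain k
  obtain ⟨g, hg⟩ := exists_toK_eq (res (kmod X) hDV k) fun x => (hD ⟨x.1, hDV x.2⟩).mp x.2
  have hDU : SDense D U := by
    rw [sdense_iff]
    intro W hW a ha
    refine hV.eq_zero hW (hDd.eq_zero inf_le_right ?_)
    have := congrArg (ores (le_inf (inf_le_left.trans inf_le_left) inf_le_right :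
      (W ⊓ V) ⊓ D ≤ W ⊓ D)) ha
    simpa using this
  obtain ⟨s, hs⟩ := exists_ext hX (hDV.trans hVU) hDU g
  refine ⟨s, kmod_injective hDV hDd ?_⟩
  rw [res_res, hs, hg]

end K149.Pseudo
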