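import Groth.Agent.Mero.K149.Div

/-!
# Regular meromorphic sections of invertible modules and `O_X(D)`

* `isIso_of_isGen`; stalks of generators (`germ_gen_injective`, `germ_gen_surjective`, `smul_germ_bijective`)
* `kmul k m : Γ(merMod F, U)` the product of a meromorphic function and a section; `kmul_bijective`.
* `hasRegularMero_of_iso`, `exists_iso_of_regular` : `L ≅ O_X(D)` for some `D` iff `L` has a regular meromorphic section.
-/

set_option autoImplicit false
universe u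

open CategoryTheory CategoryTheory.Limits AlgebraicGeometry Opposite TopologicalSpace
open Groth.Agent.Fdesc.LocGen

namespace K149.RegMero

open Mero K149.Basic K149.Affine K149.Div

variable {X : Scheme.{u}}

/-- A morphism which locally sends a generator to a generator is an isomorphism. -/
theorem isIso_of_isGen {M N : X.Modules} (φ : M ⟶ N)
    (h : ∀ x : X, ∃ (U : X.Opens) (e : Γ(M, U)), x ∈ U ∧ IsGen e ∧ IsGen (φ.app U e)) :
    IsIso φ := by
  choose U e hx he he' using h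
  have key : ∀ (V : X.Opens) (x : X), V ≤ U x → Function.Bijective (φ.app V) := by
    intro V x hV
    rw [← ((he x) V hV).of_comp_iff]
    convert (he' x) V hV using 2 with a
    simp only [Function.comp_apply, Scheme.Modules.Hom.app_smul, app_res]
  rw [Scheme.Modules.Hom.isIso_iff_isIso_app]
  intro V
  rw [ConcreteCategory.isIso_iff_bijective]
  have hcov : V ≤ ⨆ x, V ⊓ U x := fun x hxV => Opens.mem_iSup.mpr ⟨x, hxV, hx x⟩
  constructor
  · intro a b hab
    refine res_ext M (fun x => V ⊓ U x) (fun x => inf_le_left) hcov fun x => ?_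
    apply (key (V ⊓ U x) x inf_le_right).1
    rw [app_res, app_res]
    exact congrArg _ hab
  · intro n
    choose m hm using fun x => (key (V ⊓ U x) x inf_le_right).2 (res N inf_le_left n)
    obtain ⟨t, ht⟩ := res_glue M (fun x => V ⊓ U x) (fun x => inf_le_left) hcov m (by
      intro i j
      apply (key _ i (inf_le_left.trans inf_le_right)).1
      rw [app_res, app_res, hm, hm, res_res, res_res])
    refine ⟨t, res_ext N (fun x => V ⊓ U x) (fun x => inf_le_left) hcov fun x => ?_⟩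
    rw [← app_res, ht, hm]

/-! ### Stalks of modules -/

/-- Germ of a section of a module. -/
noncomputable def mg (F : X.Modules) {U : X.Opens} (x : U) : Γ(F, U) →+ F.presheaf.stalk x.1 :=
  (F.presheaf.germ U x.1 x.2).hom

lemma mg_def (F : X.Modules) {U : X.Opens} (x : U) (m : Γ(F, U)) :
    mg F x m = F.presheaf.germ U x.1 x.2 m := rfl

lemma mg_res (F : X.Modules) {U V : X.Opens} (h : V ≤ U) (x : V) (m : Γ(F, U)) :
    mg F x (res F h m) = mg F ⟨x.1, h x.2⟩ m :=
  TopCat.Presheaf.germ_res_apply F.presheaf (homOfLE h) x.1 x.2 m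

lemma mg_smul (F : X.Modules) {U : X.Opens} (x : U) (r : Γ(X, U)) (m : Γ(F, U)) :
    mg F x (r • m) = og x r • mg F x m := germ_smul F U x.1 x.2 r m

lemma mg_exists (F : X.Modules) {x : X} (t : F.presheaf.stalk x) (W : X.Opens) (hx : x ∈ W) :
    ∃ (V : X.Opens) (_ : V ≤ W) (hV : x ∈ V) (m : Γ(F, V)), mg F ⟨x, hV⟩ m = t := by
  obtain ⟨V, hV, a, rfl⟩ := TopCat.Presheaf.exists_germ_eq F.presheaf t
  refine ⟨V ⊓ W, inf_le_right, ⟨hV, hx⟩, res F inf_le_left a, ?_⟩
  exact mg_res F inf_le_left ⟨x, ⟨hV, hx⟩⟩ a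

lemma mg_eq_near (F : X.Modules) {U : X.Opens} (x : U) {a b : Γ(F, U)} (h : mg F x a = mg F x b) :
    ∃ (V : X.Opens) (hV : V ≤ U), x.1 ∈ V ∧ res F hV a = res F hV b := by
  obtain ⟨W, hW, i, j, hij⟩ := TopCat.Presheaf.germ_eq F.presheaf x.1 x.2 x.2 a b h
  exact ⟨W, i.le, hW, hij⟩

lemma mg_gen_injective {F : X.Modules} {U : X.Opens} {e : Γ(F, U)} (he : IsGen e) (x : U)
    {c : X.presheaf.stalk x.1} (h : c • mg F x e = 0) : c = 0 := by
  obtain ⟨V, hV, hx, c', rfl⟩ := germ_exists c U x.2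
  have h1 : mg F ⟨x.1, hx⟩ (c' • res F hV e) = mg F ⟨x.1, hx⟩ 0 := by
    rw [mg_smul, mg_res F hV, map_zero]; exact h
  obtain ⟨W, hW, hxW, h2⟩ := mg_eq_near F ⟨x.1, hx⟩ h1
  rw [res_smul, res_res, map_zero] at h2
  have h3 : ores hW c' = 0 := (he W (hW.trans hV)).1 (by
    change ores hW c' • res F (hW.trans hV) e = (0 : Γ(X, W)) • res F (hW.trans hV) e
    rw [h2, zero_smul])
  rw [← og_ores hW ⟨x.1, hxW⟩ c', h3, map_zero]

lemma mg_gen_surjective {F : X.Modules} {U : X.Opens} {e : Γ(F, U)} (he : IsGen e) (x : U)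
    (t : F.presheaf.stalk x.1) : ∃ c : X.presheaf.stalk x.1, t = c • mg F x e := by
  obtain ⟨V, hV, hx, m, rfl⟩ := mg_exists F t U x.2
  obtain ⟨c, hc⟩ := (he V hV).2 m
  refine ⟨og ⟨x.1, hx⟩ c, ?_⟩
  rw [← hc]
  change mg F ⟨x.1, hx⟩ (c • res F hV e) = _
  rw [mg_smul, mg_res F hV]

/-- The image of a germ in `S_x⁻¹ F_x`. -/
noncomputable def mq (F : X.Modules) {U : X.Opens} (x : U) (m : Γ(F, U)) : MStalk F x.1 :=
  LocalizedModule.mk (mg F x m) 1

lemma mq_res (F : X.Modules) {U V : X.Opens} (h : V ≤ U) (x : V) (m : Γ(F, U)) :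
    mq F x (res F h m) = mq F ⟨x.1, h x.2⟩ m := mk_congr (mg_res F h x m) rfl

lemma mk_smul_mk' {x : X} (F : X.Modules) (c : X.presheaf.stalk x) (b : regStalk X x)
    (m : F.presheaf.stalk x) (b' : regStalk X x) :
    (LocalizedModule.mk c b : KStalk X x) • (LocalizedModule.mk m b' : MStalk F x) =
      LocalizedModule.mk (c • m) (b * b') := LocalizedModule.mk_smul_mk ..

lemma mq_smul (F : X.Modules) {U : X.Opens} (x : U) (r : Γ(X, U)) (m : Γ(F, U)) :
    mq F x (r • m) = (toK X U r).1 x • mq F x m := by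
  rw [toK_apply, mq, mq, mk_smul_mk']
  exact mk_congr (mg_smul F x r m) (by rw [mul_one])

lemma mq_gen_injective {F : X.Modules} {U : X.Opens} {e : Γ(F, U)} (he : IsGen e) (x : U)
    {k : KStalk X x.1} (h : k • mq F x e = 0) : k = 0 := by
  obtain ⟨c, b, rfl⟩ := IsLocalization.exists_mk'_eq (regStalk X x.1) k
  rw [← Localization.mk_eq_mk'_apply] at h ⊢
  change (LocalizedModule.mk c b : KStalk X x.1) • (LocalizedModule.mk (mg F x e) 1 : MStalk F x.1) = 0 at h
  rw [mk_smul_mk', ← LocalizedModule.zero_mk 1, LocalizedModule.mk_eq] at h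
  obtain ⟨u, hu⟩ := h
  simp only [smul_zero, one_smul] at hu
  rw [Submonoid.smul_def, smul_smul] at hu
  have h1 := mg_gen_injective he x hu
  have h2 : c = 0 := by
    have := (mem_nonZeroDivisors_iff_left.mp (regStalk_le_nonZeroDivisors x.1 u.2)) c h1
    exact this
  rw [h2]
  exact Localization.mk_zero b

lemma mq_gen_ext {F : X.Modules} {U : X.Opens} {e : Γ(F, U)} (he : IsGen e) (x : U)
    {k k' : KStalk X x.1} (h : k • mq F x e = k' • mq F x e) : k = k' := by
  rw [← sub_eq_zero] at h ⊢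
  rw [← sub_smul] at h
  exact mq_gen_injective he x h

lemma mq_gen_surjective {F : X.Modules} {U : X.Opens} {e : Γ(F, U)} (he : IsGen e) (x : U)
    (t : MStalk F x.1) : ∃ k : KStalk X x.1, t = k • mq F x e := by
  induction t using LocalizedModule.induction_on with
  | h m s =>
    obtain ⟨c, rfl⟩ := mg_gen_surjective he x m
    refine ⟨LocalizedModule.mk c s, ?_⟩
    rw [mq, mk_smul_mk']
    exact mk_congr rfl (by rw [mul_one])

/-! ### Sections of `K_X(F)` -/

lemma mext {F : X.Modules} {U : X.Opens} {s t : Γ(merMod F, U)} (h : ∀ x : U, s.1 x = t.1 x) : s = t :=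
  Subtype.ext (funext h)

@[simp] lemma mres_apply {F : X.Modules} {U V : X.Opens} (h : V ≤ U) (s : Γ(merMod F, U)) (x : V) :
    (res (merMod F) h s).1 x = s.1 ⟨x.1, h x.2⟩ := rfl

/-- Product of a meromorphic function and a section of `F`. -/
noncomputable def kmul {F : X.Modules} {U : X.Opens} (k : Γ(kmod X, U)) (m : Γ(F, U)) :
    Γ(merMod F, U) :=
  ⟨fun x => k.1 x • mq F x m, fun x => by
    obtain ⟨V, hV, -, hx, a, b, hab⟩ := exists_frac k x U x.2
    refine ⟨V, hx, homOfLE hV, a • res F hV m, b, fun y => ?_⟩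
    have h1 : k.1 ⟨y.1, hV y.2⟩ = (frac a b).1 y := by rw [← hab]; rfl
    change k.1 ⟨y.1, hV y.2⟩ • mq F ⟨y.1, hV y.2⟩ m = LocalizedModule.mk (mg F y (a • res F hV m)) (regGerm y b)
    rw [h1, mg_smul, mg_res F hV, frac_apply', mq, mk_smul_mk']
    exact mk_congr rfl (by rw [mul_one])⟩

lemma kmul_apply {F : X.Modules} {U : X.Opens} (k : Γ(kmod X, U)) (m : Γ(F, U)) (x : U) :
    (kmul k m).1 x = k.1 x • mq F x m := rfl

lemma res_kmul {F : X.Modules} {U V : X.Opens} (h : V ≤ U) (k : Γ(kmod X, U)) (m : Γ(F, U)) :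
    res (merMod F) h (kmul k m) = kmul (res (kmod X) h k) (res F h m) := by
  refine mext fun x => ?_
  rw [mres_apply, kmul_apply, kmul_apply, mq_res, res_apply]

lemma kmul_smul {F : X.Modules} {U : X.Opens} (k : Γ(kmod X, U)) (r : Γ(X, U)) (m : Γ(F, U)) :
    kmul k (r • m) = kmul (toK X U r * k) m := by
  refine mext fun x => ?_
  rw [kmul_apply, kmul_apply, mq_smul, kmod_mul_apply, smul_smul, mul_comm]

lemma kmul_ext {F : X.Modules} {U : X.Opens} {e : Γ(F, U)} (he : IsGen e) {k k' : Γ(kmod X, U)}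
    (h : kmul k e = kmul k' e) : k = k' := by
  refine kext fun x => mq_gen_ext he x ?_
  exact congrFun (congrArg Subtype.val h) x

/-- Over an open with a generator, `K_X(F)` is free over `K_X` on the generator. -/
lemma exists_kmul_eq {F : X.Modules} {U : X.Opens} {e : Γ(F, U)} (he : IsGen e)
    (s : Γ(merMod F, U)) : ∃ k : Γ(kmod X, U), s = kmul k e := by
  have key : ∀ x : U, ∃ (V : X.Opens) (hV : V ≤ U) (_ : x.1 ∈ V) (k : Γ(kmod X, V)),
      res (merMod F) hV s = kmul k (res F hV e) := by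
    intro x
    obtain ⟨V, hx, i, m, b, hmb⟩ := s.2 x
    obtain ⟨a, ha⟩ := (he V i.le).2 m
    refine ⟨V, i.le, hx, frac a b, mext fun y => ?_⟩
    have h1 := hmb y
    change s.1 ⟨y.1, i.le y.2⟩ = LocalizedModule.mk (mg F y m) (regGerm y b) at h1
    rw [mres_apply, h1, ← ha]
    change LocalizedModule.mk (mg F y (a • res F i.le e)) (regGerm y b) = _
    rw [kmul_apply, frac_apply', mq, mk_smul_mk', mg_smul]
    exact mk_congr rfl (by rw [mul_one])
  choose V hV hx k hk using key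
  have hcov : U ≤ ⨆ x, V x := fun x hxU => Opens.mem_iSup.mpr ⟨⟨x, hxU⟩, hx ⟨x, hxU⟩⟩
  obtain ⟨t, ht⟩ := res_glue (kmod X) V hV hcov k (by
    intro i j
    apply kmul_ext (he.res ((inf_le_left : V i ⊓ V j ≤ V i).trans (hV i)))
    have h1 := congrArg (res (merMod F) (inf_le_left : V i ⊓ V j ≤ V i)) (hk i)
    have h2 := congrArg (res (merMod F) (inf_le_right : V i ⊓ V j ≤ V j)) (hk j)
    simp only [res_res, res_kmul] at h1 h2
    rw [← h1, ← h2])
  refine ⟨t, res_ext (merMod F) V hV hcov fun i => ?_⟩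
  rw [res_kmul, ht, hk]

/-- `s = f · e` over `U`, with `e` a generator and `f` a unit of `K_X`. -/
structure IsChart {L : X.Modules} (s : Γ(merMod L, ⊤)) (U : X.Opens) (e : Γ(L, U))
    (f : (Γ(kmod X, U))ˣ) : Prop where
  gen : IsGen e
  eq : res (merMod L) le_top s = kmul (f : Γ(kmod X, U)) e

lemma IsChart.res {L : X.Modules} {s : Γ(merMod L, ⊤)} {U : X.Opens} {e : Γ(L, U)}
    {f : (Γ(kmod X, U))ˣ} (h : IsChart s U e f) {V : X.Opens} (hV : V ≤ U) :
    IsChart s V (res L hV e) (ures hV f) :=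
  ⟨h.gen.res hV, by rw [← res_res (merMod L) le_top hV, h.eq, res_kmul]; rfl⟩

/-- Two charts over the same open differ by a unit function. -/
lemma IsChart.unique {L : X.Modules} {s : Γ(merMod L, ⊤)} {U : X.Opens} {e e' : Γ(L, U)}
    {f f' : (Γ(kmod X, U))ˣ} (h : IsChart s U e f) (h' : IsChart s U e' f') :
    ∃ u : (Γ(X, U))ˣ, (f : Γ(kmod X, U)) = toK X U u * f' ∧ e' = (u : Γ(X, U)) • e := by
  obtain ⟨a, ha, rfl⟩ := h.gen.exists_unit h'.gen
  refine ⟨ha.unit, ?_, rfl⟩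
  apply kmul_ext h.gen
  rw [← h.eq, h'.eq, kmul_smul]
  rfl

/-- A regular meromorphic section has charts. -/
lemma exists_chart {L : X.Modules} (hL : PicF.IsInvertible L) {s : Γ(merMod L, ⊤)}
    (hs : IsRegularMero L s) (x : X) : ∃ (U : X.Opens) (e : Γ(L, U)) (f : (Γ(kmod X, U))ˣ),
      x ∈ U ∧ IsChart s U e f := by
  obtain ⟨U, e, hx, he⟩ := (isInvertible_iff L).mp hL x
  obtain ⟨k, hk⟩ := exists_kmul_eq he (res (merMod L) le_top s)
  have hreg : ∀ (y : U) (q : KStalk X y.1), q * k.1 y = 0 → q = 0 := by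
    intro y q hq
    apply hs y.1 q
    have h1 : s.1 ⟨y.1, Opens.mem_top y.1⟩ = k.1 y • mq L y e := by
      rw [← kmul_apply, ← hk]; rfl
    rw [h1, smul_smul, hq, zero_smul]
  obtain ⟨V, hV, -, hxV, a, b, hab⟩ := exists_frac k ⟨x, hx⟩ U hx
  have ha : a ∈ regSub X V := by
    intro y
    change og y a ∈ nonZeroDivisors _
    rw [mem_nonZeroDivisors_iff_right]
    intro c hc
    apply algebraMap_KStalk_injective
    rw [map_zero]
    apply hreg ⟨y.1, hV y.2⟩
    have h1 : k.1 ⟨y.1, hV y.2⟩ = (frac a b).1 y := by rw [← hab]; rfl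
    rw [h1, frac_apply', ← Localization.mk_one_eq_algebraMap]
    change (LocalizedModule.mk c 1 : KStalk X y.1) * LocalizedModule.mk (og y a) (regGerm y b) = 0
    refine LocalizedModule.mk_mul_mk.trans ?_
    rw [hc, LocalizedModule.zero_mk]
  have hu : IsUnit (frac a b) := by
    have h1 : IsUnit (frac a b * toK X V b.1) := by rw [frac_mul_toK a b]; exact isUnit_toK ha
    exact isUnit_of_mul_isUnit_left h1
  refine ⟨V, res L hV e, hu.unit, hxV, he.res hV, ?_⟩
  rw [← res_res (merMod L) le_top hV, hk, res_kmul, hab]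
  rfl

/-- The divisor of a section with charts. -/
theorem exists_divisor {L : X.Modules} {s : Γ(merMod L, ⊤)}
    (hs : ∀ x : X, ∃ (U : X.Opens) (e : Γ(L, U)) (f : (Γ(kmod X, U))ˣ), x ∈ U ∧ IsChart s U e f) :
    ∃ D : Divisor X, ∀ (U : X.Opens) (e : Γ(L, U)) (f : (Γ(kmod X, U))ˣ), IsChart s U e f →
      IsLoc D U f := by
  choose U e f hx hc using hs
  have key : ∀ (V : X.Opens) (e' : Γ(L, V)) (f' : (Γ(kmod X, V))ˣ), IsChart s V e' f' →
      ∀ y : V, germOf (f y.1) ⟨y.1, hx y.1⟩ = germOf f' y := by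
    intro V e' f' hc' y
    obtain ⟨u, hu, -⟩ := (hc'.res (inf_le_left : V ⊓ U y.1 ≤ V)).unique
      ((hc y.1).res (inf_le_right : V ⊓ U y.1 ≤ U y.1))
    refine (mk_eq_mk_iff _ _).mpr
      ⟨Units.map (og (U := V ⊓ U y.1) ⟨y.1, ⟨y.2, hx y.1⟩⟩).toMonoidHom u, ?_⟩
    have h1 := congrFun (congrArg Subtype.val hu) ⟨y.1, ⟨y.2, hx y.1⟩⟩
    exact h1
  refine ⟨⟨fun x => germOf (f x) ⟨x, hx x⟩, fun x => ⟨U x, hx x, f x, fun y => ?_⟩⟩, ?_⟩
  · exact key (U x) (e x) (f x) (hc x) y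
  · intro V e' f' hc' y
    exact key V e' f' hc' y

/-- The isomorphism `L ≅ O_X(D)`, `ℓ ↦ ℓ / s`. -/
theorem exists_iso {L : X.Modules} {s : Γ(merMod L, ⊤)}
    (hs : ∀ x : X, ∃ (U : X.Opens) (e : Γ(L, U)) (f : (Γ(kmod X, U))ˣ), x ∈ U ∧ IsChart s U e f)
    {D : Divisor X} (hD : ∀ (U : X.Opens) (e : Γ(L, U)) (f : (Γ(kmod X, U))ˣ), IsChart s U e f →
      IsLoc D U f) :
    ∃ φ : L ≅ divMod D, ∀ (U : X.Opens) (m : Γ(L, U)) (x : U),
      (φ.hom.app U m).1 x • s.1 ⟨x.1, trivial⟩ = mq L x m := by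
  -- on each stalk, `k ↦ k • s_x` is bijective
  have hbij : ∀ x : X, Function.Bijective (fun k : KStalk X x => k • s.1 ⟨x, trivial⟩) := by
    intro x
    obtain ⟨U, e, f, hx, hc⟩ := hs x
    have h1 : s.1 ⟨x, trivial⟩ = (f : Γ(kmod X, U)).1 ⟨x, hx⟩ • mq L ⟨x, hx⟩ e := by
      rw [← kmul_apply, ← hc.eq]; rfl
    constructor
    · intro k k' hk
      change k • s.1 ⟨x, trivial⟩ = k' • s.1 ⟨x, trivial⟩ at hk
      rw [h1, smul_smul, smul_smul] at hk
      exact (((isUnit_iff _).mp f.isUnit ⟨x, hx⟩).mul_left_inj).mp (mq_gen_ext hc.gen ⟨x, hx⟩ hk)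
    · intro t
      obtain ⟨k, rfl⟩ := mq_gen_surjective hc.gen ⟨x, hx⟩ t
      obtain ⟨g, hg⟩ := ((isUnit_iff _).mp f.isUnit ⟨x, hx⟩).exists_left_inv
      refine ⟨k * g, ?_⟩
      change (k * g) • s.1 ⟨x, trivial⟩ = _
      rw [h1, smul_smul, mul_assoc, hg, mul_one]
  let rat : ∀ x : X, MStalk L x → KStalk X x := fun x t => ((hbij x).2 t).choose
  have hrat : ∀ (x : X) (t : MStalk L x), rat x t • s.1 ⟨x, trivial⟩ = t :=
    fun x t => ((hbij x).2 t).choose_spec
  have hrat' : ∀ (x : X) (k : KStalk X x) (t : MStalk L x), k • s.1 ⟨x, trivial⟩ = t → rat x t = k :=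
    fun x k t h => (hbij x).1 ((hrat x t).trans h.symm)
  -- the local form
  have hloc : ∀ (V : X.Opens) (e : Γ(L, V)) (f : (Γ(kmod X, V))ˣ) (_ : IsChart s V e f) (c : Γ(X, V))
      (y : V), rat y.1 (mq L y (c • e)) = (toK X V c * ((f⁻¹ : (Γ(kmod X, V))ˣ) : Γ(kmod X, V))).1 y := by
    intro V e f hc c y
    apply hrat'
    have h1 : s.1 ⟨y.1, trivial⟩ = (f : Γ(kmod X, V)).1 y • mq L y e := by
      rw [← kmul_apply, ← hc.eq]; rfl
    rw [h1, smul_smul, ← kmod_mul_apply, mul_assoc, Units.inv_mul, mul_one, mq_smul]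
  have hsec : ∀ (U : X.Opens) (m : Γ(L, U)), ∃ t : Γ(divMod D, U), ∀ x : U, t.1 x = rat x.1 (mq L x m) := by
    intro U m
    refine ⟨⟨fun x => rat x.1 (mq L x m), ?_, ?_⟩, fun _ => rfl⟩
    · intro x
      obtain ⟨V, e, f, hx, hc⟩ := hs x.1
      have hc' := hc.res (inf_le_right : U ⊓ V ≤ V)
      obtain ⟨c, hcm⟩ := (hc'.gen _ le_rfl).2 (res L inf_le_left m)
      obtain ⟨W, hW, i, a, b, hab⟩ := (toK X (U ⊓ V) c *
        (((ures inf_le_right f)⁻¹ : (Γ(kmod X, U ⊓ V))ˣ) : Γ(kmod X, U ⊓ V))).2 ⟨x.1, ⟨x.2, hx⟩⟩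
      refine ⟨W, hW, homOfLE (i.le.trans inf_le_left), a, b, fun y => ?_⟩
      refine Eq.trans ?_ (hab y)
      have h2 := hloc (U ⊓ V) _ _ hc' c ⟨y.1, i.le y.2⟩
      rw [res_refl] at hcm
      change rat y.1 (mq L (⟨y.1, (i.le y.2).1⟩ : U) m) = _
      have h3 : mq L (⟨y.1, i.le y.2⟩ : ↥(U ⊓ V)) (c • res L inf_le_right e) =
          mq L (⟨y.1, (i.le y.2).1⟩ : U) m := by
        rw [show c • res L inf_le_right e = res L inf_le_left m from hcm, mq_res]
      rw [h3] at h2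
      exact h2
    · intro x
      obtain ⟨V, e, f, hx, hc⟩ := hs x.1
      have hc' := hc.res (inf_le_right : U ⊓ V ≤ V)
      obtain ⟨c, hcm⟩ := (hc'.gen _ le_rfl).2 (res L inf_le_left m)
      rw [res_refl] at hcm
      have h2 := hloc (U ⊓ V) _ _ hc' c ⟨x.1, ⟨x.2, hx⟩⟩
      have h3 : mq L (⟨x.1, ⟨x.2, hx⟩⟩ : ↥(U ⊓ V)) (c • res L inf_le_right e) = mq L x m := by
        rw [show c • res L inf_le_right e = res L inf_le_left m from hcm, mq_res]
      rw [h3] at h2
      rw [divCond_iff D (hD _ _ _ hc' ⟨x.1, ⟨x.2, hx⟩⟩)]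
      change rat x.1 (mq L x m) * _ ∈ _
      rw [h2]
      refine ⟨og (U := U ⊓ V) ⟨x.1, ⟨x.2, hx⟩⟩ c, ?_⟩
      rw [← toK_apply', uval_val, ← kmod_mul_apply, mul_assoc, Units.inv_mul, mul_one]
  choose t ht using hsec
  let φ : L ⟶ divMod D := mkHom
    (fun U =>
      { toFun := t U
        map_zero' := Subtype.ext (funext fun x => by
          rw [ht U]
          apply hrat'
          change (0 : KStalk X x.1) • _ = _
          rw [zero_smul, mq, map_zero, LocalizedModule.zero_mk])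
        map_add' := fun m n => Subtype.ext (funext fun x => by
          rw [ht U]
          apply hrat'
          change ((t U m).1 x + (t U n).1 x) • _ = _
          rw [add_smul, ht U, ht U, hrat, hrat, mq, mq, mq, map_add, LocalizedModule.mk_add_mk]
          exact mk_congr (by simp only [one_smul]) (by rw [one_mul])) })
    (fun U a m => Subtype.ext (funext fun x => by
      change (t U (a • m)).1 x = og x a • (t U m).1 x
      rw [ht U, ht U]
      apply hrat'
      rw [Algebra.smul_def, mul_smul, hrat, mq_smul]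
      rfl))
    (fun U V h m => Subtype.ext (funext fun x => by
      change (t V (res L h m)).1 x = (t U m).1 ⟨x.1, h x.2⟩
      rw [ht V, ht U, mq_res]))
  have hφ : ∀ (U : X.Opens) (m : Γ(L, U)) (x : U), (φ.app U m).1 x = rat x.1 (mq L x m) :=
    fun U m x => ht U m x
  have hiso : IsIso φ := by
    apply isIso_of_isGen
    intro x
    obtain ⟨U, e, f, hx, hc⟩ := hs x
    refine ⟨U, e, hx, hc.gen, ?_⟩
    have h1 : φ.app U e = K149.Div.gen (hD U e f hc) := by
      refine Subtype.ext (funext fun y => ?_)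
      have h2 := hloc U e f hc 1 y
      rw [one_smul, map_one, one_mul] at h2
      exact (hφ U e y).trans h2
    rw [h1]
    exact isGen_gen _
  refine ⟨@asIso _ _ _ _ φ hiso, fun U m x => ?_⟩
  change (φ.app U m).1 x • _ = _
  rw [hφ, hrat]

/-- If `L` has a regular meromorphic section then `L ≅ O_X(D)`. -/
theorem exists_iso_of_regular {L : X.Modules} (hL : PicF.IsInvertible L) (h : HasRegularMero L) :
    ∃ D : Divisor X, Nonempty (L ≅ divMod D) := by
  obtain ⟨s, hs⟩ := h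
  have hc := exists_chart hL hs
  obtain ⟨D, hD⟩ := exists_divisor hc
  obtain ⟨φ, -⟩ := exists_iso hc hD
  exact ⟨D, ⟨φ⟩⟩

/-- A section with charts is regular. -/
lemma regular_of_chart {L : X.Modules} {s : Γ(merMod L, ⊤)}
    (hs : ∀ x : X, ∃ (U : X.Opens) (e : Γ(L, U)) (f : (Γ(kmod X, U))ˣ), x ∈ U ∧ IsChart s U e f) :
    IsRegularMero L s := by
  intro x q hq
  obtain ⟨U, e, f, hx, hc⟩ := hs x
  have h1 : s.1 ⟨x, trivial⟩ = (f : Γ(kmod X, U)).1 ⟨x, hx⟩ • mq L ⟨x, hx⟩ e := by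
    rw [← kmul_apply, ← hc.eq]; rfl
  rw [h1, smul_smul] at hq
  exact ((isUnit_iff _).mp f.isUnit ⟨x, hx⟩).mul_left_eq_zero.mp (mq_gen_injective hc.gen ⟨x, hx⟩ hq)

/-- Gluing charts: a family `(U_i, e_i, f_i)` with `f_i e_i = f_j e_j` gives a section. -/
theorem exists_section {L : X.Modules} (U : X → X.Opens) (hx : ∀ x, x ∈ U x) (e : ∀ x, Γ(L, U x))
    (he : ∀ x, IsGen (e x)) (f : ∀ x, (Γ(kmod X, U x))ˣ)
    (h : ∀ x y, kmul (res (kmod X) (inf_le_left : U x ⊓ U y ≤ U x) (f x)) (res L inf_le_left (e x)) =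
      kmul (res (kmod X) (inf_le_right : U x ⊓ U y ≤ U y) (f y)) (res L inf_le_right (e y))) :
    ∃ s : Γ(merMod L, ⊤), ∀ x, IsChart s (U x) (e x) (f x) := by
  obtain ⟨s, hs⟩ := res_glue (merMod L) U (fun x => (le_top : U x ≤ ⊤))
    (fun x _ => Opens.mem_iSup.mpr ⟨x, hx x⟩) (fun x => kmul (f x : Γ(kmod X, U x)) (e x)) (by
      intro x y
      rw [res_kmul, res_kmul]
      exact h x y)
  exact ⟨s, fun x => ⟨he x, hs x⟩⟩

theorem hasRegularMero_of_iso {L : X.Modules} {D : Divisor X} (φ : L ≅ divMod D) :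
    HasRegularMero L := by
  choose U hx f hf using exists_local D
  have he : ∀ x, IsGen (φ.inv.app (U x) (K149.Div.gen (hf x))) := fun x => (isGen_gen (hf x)).app φ.inv
  obtain ⟨s, hs⟩ := exists_section U hx (fun x => φ.inv.app (U x) (K149.Div.gen (hf x))) he f (by
    intro x y
    obtain ⟨u, hu⟩ := (isLoc_iff ((hf x).res (inf_le_left : U x ⊓ U y ≤ U x))).mp
      ((hf y).res (inf_le_right : U x ⊓ U y ≤ U y))
    have h1 : res L (inf_le_left : U x ⊓ U y ≤ U x) (φ.inv.app (U x) (K149.Div.gen (hf x))) =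
        (u : Γ(X, U x ⊓ U y)) • res L (inf_le_right : U x ⊓ U y ≤ U y) (φ.inv.app (U y) (K149.Div.gen (hf y))) := by
      rw [← app_res, ← app_res, ← Scheme.Modules.Hom.app_smul]
      congr 1
      apply divModι_injective
      rw [divModι_smul]
      change (((ures inf_le_left (f x))⁻¹ : (Γ(kmod X, U x ⊓ U y))ˣ) : Γ(kmod X, U x ⊓ U y)) =
        toK X _ u * (((ures inf_le_right (f y))⁻¹ : (Γ(kmod X, U x ⊓ U y))ˣ) : Γ(kmod X, U x ⊓ U y))
      rw [eq_comm, ← Units.mul_right_inj (ures inf_le_left (f x)), Units.mul_inv, ← mul_assoc,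
        mul_comm _ (toK X _ u.1), ← hu, Units.mul_inv]
    rw [h1, kmul_smul]
    congr 1
    exact hu.symm)
  exact ⟨s, regular_of_chart fun x => ⟨U x, _, f x, hx x, hs x⟩⟩

theorem exists_iso_divMod_iff (L : X.Modules) (hL : PicF.IsInvertible L) :
    (∃ D : Divisor X, Nonempty (L ≅ divMod D)) ↔ HasRegularMero L :=
  ⟨fun ⟨_, ⟨φ⟩⟩ => hasRegularMero_of_iso φ, exists_iso_of_regular hL⟩

end K149.RegMero
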