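import Groth.Agent.Mero.K149.Ass
import Groth.Agent.Mero.K149.Pseudo
import Groth.Agent.Mero.K149.RegMero
import Groth.Agent.Mero.K149.PullReg

/-!
# Existence of divisors of invertible modules

* `exists_iso_of_sdense` : a generator of `L` on a schematically dense open gives `L ≅ O_X(D)` (`LocFinAss X`).
* `exists_iso_of_affine` (case a), `exists_iso_of_reduced` (case b), `sdense_of_maxPt`, `exists_disjoint` ...
-/

set_option autoImplicit false
universe u

open CategoryTheory CategoryTheory.Limits AlgebraicGeometry Opposite TopologicalSpace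
open Groth.Agent.Fdesc.LocGen

namespace K149.Exist

open Mero K149.Basic K149.Affine K149.Ass K149.MaxPt K149.Pseudo K149.Div K149.RegMero K149.PullReg

variable {X : Scheme.{u}}

/-- A unit function on a schematically dense open extends to a unit of `K_X`. -/
lemma exists_unit_ext (hX : LocFinAss X) {U V : X.Opens} (hVU : V ≤ U) (hV : SDense V U)
    (g : (Γ(X, V))ˣ) : ∃ f : (Γ(kmod X, U))ˣ, res (kmod X) hVU f = toK X V g := by
  obtain ⟨s, hs⟩ := exists_ext hX hVU hV (g : Γ(X, V))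
  obtain ⟨t, ht⟩ := exists_ext hX hVU hV ((g⁻¹ : (Γ(X, V))ˣ) : Γ(X, V))
  have hst : s * t = 1 := by
    apply kmod_injective hVU hV
    rw [res_mul, hs, ht, ← map_mul, Units.mul_inv, map_one, res_one']
  exact ⟨⟨s, t, hst, by rw [mul_comm]; exact hst⟩, hs⟩

theorem exists_section_of_sdense (hX : LocFinAss X) {L : X.Modules} (hL : PicF.IsInvertible L)
    {V : X.Opens} (hV : SDense V ⊤) {m : Γ(L, V)} (hm : IsGen m) :
    ∃ s : Γ(merMod L, ⊤), (∀ x : X, ∃ (U : X.Opens) (e : Γ(L, U)) (f : (Γ(kmod X, U))ˣ),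
      x ∈ U ∧ IsChart s U e f) ∧ IsChart s V m 1 := by
  choose U e hx he using (isInvertible_iff L).mp hL
  have hdense : ∀ x : X, SDense (U x ⊓ V) (U x) := fun x => hV.inf le_top
  have h1 : ∀ x : X, ∃ g : (Γ(X, U x ⊓ V))ˣ,
      res L (inf_le_right : U x ⊓ V ≤ V) m = (g : Γ(X, U x ⊓ V)) • res L inf_le_left (e x) := by
    intro x
    obtain ⟨a, ha, h⟩ := ((he x).res (inf_le_left : U x ⊓ V ≤ U x)).exists_unit (hm.res inf_le_right)
    exact ⟨ha.unit, h⟩
  choose g hg using h1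
  choose f hf using fun x => exists_unit_ext hX inf_le_left (hdense x) (g x)
  have key : ∀ (x : X) (W : X.Opens) (h1 : W ≤ U x) (h2 : W ≤ V),
      kmul (res (kmod X) h1 (f x)) (res L h1 (e x)) = kmul 1 (res L h2 m) := by
    intro x W h1 h2
    have h3 := congrArg (res L (le_inf h1 h2 : W ≤ U x ⊓ V)) (hg x)
    have h4 := congrArg (res (kmod X) (le_inf h1 h2 : W ≤ U x ⊓ V)) (hf x)
    simp only [res_res, res_smul, res_toK] at h3 h4
    rw [h3, kmul_smul, h4, mul_one]
  obtain ⟨s, hs⟩ := exists_section U hx e he f (by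
    intro x y
    obtain ⟨a, ha, hay⟩ := ((he x).res (inf_le_left : U x ⊓ U y ≤ U x)).exists_unit
      ((he y).res (inf_le_right : U x ⊓ U y ≤ U y))
    rw [hay, kmul_smul]
    congr 1
    have hd : SDense ((U x ⊓ U y) ⊓ V) (U x ⊓ U y) := hV.inf le_top
    apply kmod_injective inf_le_left hd
    apply kmul_ext ((he x).res ((inf_le_left : (U x ⊓ U y) ⊓ V ≤ U x ⊓ U y).trans inf_le_left))
    rw [res_res, key x _ _ inf_le_right, res_mul, res_res, res_toK, ← kmul_smul]
    have h5 := congrArg (res L (inf_le_left : (U x ⊓ U y) ⊓ V ≤ U x ⊓ U y)) hay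
    simp only [res_res, res_smul] at h5
    rw [← h5, key y _ _ inf_le_right])
  refine ⟨s, fun x => ⟨U x, e x, f x, hx x, hs x⟩, hm, ?_⟩
  have hcov : V ≤ ⨆ x, V ⊓ U x := fun x hxV => Opens.mem_iSup.mpr ⟨x, hxV, hx x⟩
  refine res_ext (merMod L) (fun x => V ⊓ U x) (fun x => inf_le_left) hcov fun x => ?_
  rw [res_res, res_kmul, Units.val_one, res_one', ← key x _ inf_le_right inf_le_left]
  have h6 := congrArg (res (merMod L) (inf_le_right : V ⊓ U x ≤ U x)) (hs x).eq
  rw [res_res, res_kmul] at h6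
  exact h6

/-- A generator of `L` over a schematically dense open gives a divisor. -/
theorem exists_iso_of_sdense (hX : LocFinAss X) {L : X.Modules} (hL : PicF.IsInvertible L)
    {V : X.Opens} (hV : SDense V ⊤) {m : Γ(L, V)} (hm : IsGen m) :
    ∃ D : Divisor X, Nonempty (L ≅ divMod D) := by
  obtain ⟨s, hs, -⟩ := exists_section_of_sdense hX hL hV hm
  exact exists_iso_of_regular hL ⟨s, regular_of_chart hs⟩

/-! ### Case b): reduced schemes with locally finite components -/

/-- In a reduced scheme an open containing the maximal points is schematically dense. -/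
theorem sdense_of_maxPt [IsReduced X] {V U : X.Opens} (h : ∀ x ∈ U, IsMaxPt x → x ∈ V) :
    SDense V U := by
  rw [sdense_iff]
  intro W hW a ha
  refine eq_zero_of_basicOpen_eq_bot a ?_
  rw [eq_bot_iff]
  intro x hx
  have hxW : x ∈ W := X.basicOpen_le a hx
  obtain ⟨ξ, hξ, hmax⟩ := exists_maxPt x
  have hξD : ξ ∈ X.basicOpen a := hξ.mem_open (X.basicOpen a).2 hx
  have hξW : ξ ∈ W := X.basicOpen_le a hξD
  have hξV : ξ ∈ V := h ξ (hW hξW) hmax
  have h1 := congrArg (og (U := W ⊓ V) ⟨ξ, ⟨hξW, hξV⟩⟩) ha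
  rw [og_ores inf_le_left, map_zero] at h1
  rw [Scheme.mem_basicOpen _ _ _ hξW] at hξD
  have h2 : IsUnit (og (U := W) ⟨ξ, hξW⟩ a) := hξD
  rw [h1] at h2
  exact absurd h2 not_isUnit_zero

/-- A point lies in the closures of only finitely many maximal points of a small neighbourhood: with locally finite
components, each maximal point has an open neighbourhood contained in its own component and disjoint from
the others. -/
lemma exists_own_nhd
    (hX : ∀ x : X, ∃ W : X.Opens, x ∈ W ∧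
      {Z : Set X | Z ∈ irreducibleComponents X ∧ (Z ∩ (W : Set X)).Nonempty}.Finite)
    {ξ : X} (hξ : IsMaxPt ξ) : ∃ W : X.Opens, ξ ∈ W ∧ ∀ y ∈ W, ∀ η : X, IsMaxPt η → η ⤳ y → η = ξ := by
  obtain ⟨W, hW, hfin⟩ := hX ξ
  let S : Set (Set X) := {Z : Set X | Z ∈ irreducibleComponents X ∧ (Z ∩ (W : Set X)).Nonempty} \ {closure {ξ}}
  have hSfin : S.Finite := hfin.subset Set.sdiff_subset
  have hcl : IsClosed (⋃ Z ∈ S, Z) :=
    hSfin.isClosed_biUnion fun Z hZ => isClosed_of_mem_irreducibleComponents Z hZ.1.1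
  refine ⟨W ⊓ ⟨(⋃ Z ∈ S, Z)ᶜ, hcl.isOpen_compl⟩, ⟨hW, ?_⟩, ?_⟩
  · intro hmem
    obtain ⟨Z, hZ, hξZ⟩ := Set.mem_iUnion₂.mp hmem
    apply hZ.2
    have h1 : closure ({ξ} : Set X) ⊆ Z :=
      closure_minimal (Set.singleton_subset_iff.mpr hξZ) (isClosed_of_mem_irreducibleComponents Z hZ.1.1)
    exact (h1.antisymm (((isMaxPt_iff ξ).mp hξ).2 hZ.1.1.1 h1)).symm
  · intro y hy η hη hηy
    by_contra hne
    apply hy.2
    have hηW : η ∈ W := hηy.mem_open W.2 hy.1
    refine Set.mem_iUnion₂.mpr ⟨closure {η}, ⟨⟨(isMaxPt_iff η).mp hη, η, subset_closure rfl, hηW⟩, ?_⟩,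
      specializes_iff_mem_closure.mp hηy⟩
    intro heq
    have heq' : closure ({η} : Set X) = closure {ξ} := heq
    have h1 : η ⤳ ξ := specializes_iff_mem_closure.mpr (heq'.symm ▸ subset_closure rfl)
    exact hne (hξ η h1)

theorem exists_iso_of_reduced [IsReduced X]
    (hX : ∀ x : X, ∃ W : X.Opens, x ∈ W ∧
      {Z : Set X | Z ∈ irreducibleComponents X ∧ (Z ∩ (W : Set X)).Nonempty}.Finite)
    (L : X.Modules) (hL : PicF.IsInvertible L) : ∃ D : Divisor X, Nonempty (L ≅ divMod D) := by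
  choose W hW hown using fun ξ : {ξ : X // IsMaxPt ξ} => exists_own_nhd hX ξ.2
  choose U e hx he using (isInvertible_iff L).mp hL
  let V : {ξ : X // IsMaxPt ξ} → X.Opens := fun ξ => W ξ ⊓ U ξ.1
  have hdisj : ∀ ξ η : {ξ : X // IsMaxPt ξ}, ξ ≠ η → V ξ ⊓ V η = ⊥ := by
    intro ξ η hne
    rw [eq_bot_iff]
    intro y hy
    obtain ⟨ζ, hζ, hmax⟩ := exists_maxPt y
    have h1 := hown ξ y hy.1.1 ζ hmax hζ
    have h2 := hown η y hy.2.1 ζ hmax hζ
    exact (hne (Subtype.ext (h1.symm.trans h2))).elim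
  obtain ⟨m, hm⟩ := res_glue L V (fun ξ => le_iSup V ξ) le_rfl
    (fun ξ => res L (inf_le_right : V ξ ≤ U ξ.1) (e ξ.1)) (by
      intro ξ η
      by_cases h : ξ = η
      · subst h; rfl
      · have hbot := hdisj ξ η h
        have hsub : ∀ (O : X.Opens), O = ⊥ → Subsingleton Γ(L, O) := by
          rintro O rfl
          refine ⟨fun a b => res_ext L (ι := PEmpty.{1}) PEmpty.elim (fun i => i.elim) ?_ (fun i => i.elim)⟩
          exact bot_le
        have := hsub _ hbot
        exact Subsingleton.elim _ _)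
  have hgen : IsGen m := by
    refine IsGen.of_cover V (fun ξ => le_iSup V ξ) le_rfl fun ξ => ?_
    rw [hm]
    exact (he ξ.1).res _
  refine exists_iso_of_sdense (locFinAss_of_reduced X hX) hL (V := ⨆ ξ, V ξ) ?_ hgen
  exact sdense_of_maxPt fun x _ hmax => Opens.mem_iSup.mpr ⟨⟨x, hmax⟩, hW ⟨x, hmax⟩, hx x⟩

end K149.Exist
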