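import Groth.Agent.Mero.K149.Div

/-!
# Invertible fractional ideals
-/

set_option autoImplicit false
universe u

open CategoryTheory CategoryTheory.Limits AlgebraicGeometry Opposite TopologicalSpace
open Groth.Agent.Fdesc.LocGen

namespace K149.FracIdeal

open Mero K149.Basic K149.Affine K149.Div

variable {X : Scheme.{u}}

lemma app_smul_k {J : X.Modules} (ι : J ⟶ kmod X) {U : X.Opens} (r : Γ(X, U)) (t : Γ(J, U)) :
    ι.app U (r • t) = toK X U r * ι.app U t := by
  rw [Scheme.Modules.Hom.app_smul]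
  exact smul_eq_toK_mul r _

/-- A generator of a fractional ideal is locally a fraction `a / b` with both `a` and `b` regular. -/
lemma exists_unit_near {J : X.Modules} (ι : J ⟶ kmod X) (hι : ∀ U, Function.Injective (ι.app U))
    {U : X.Opens} {e : Γ(J, U)} (he : IsGen e) (x : U) :
    ∃ (V : X.Opens) (hV : V ≤ U) (_ : x.1 ∈ V) (f : (Γ(kmod X, V))ˣ),
      res (kmod X) hV (ι.app U e) = f := by
  obtain ⟨V, hVa, hV, -, hx, a, b, hab⟩ := exists_frac_affine (ι.app U e) x U x.2
  have ha : a ∈ regSub X V := by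
    rw [regSub_eq hVa, mem_nonZeroDivisors_iff_right]
    intro c hc
    have h1 : ι.app V (c • res J hV e) = ι.app V (0 • res J hV e) := by
      rw [app_smul_k, app_res, hab]
      apply (isUnit_toK b.2).mul_right_cancel
      rw [mul_assoc, frac_mul_toK a b, ← map_mul, hc, zero_smul, map_zero, map_zero, zero_mul]
    have h2 := hι V h1
    rw [zero_smul] at h2
    exact (he V hV).1 (by change c • res J hV e = (0 : Γ(X, V)) • res J hV e; rw [h2, zero_smul])
  have hu : IsUnit (frac a b) := by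
    have h1 : IsUnit (frac a b * toK X V b.1) := by rw [frac_mul_toK a b]; exact isUnit_toK ha
    exact isUnit_of_mul_isUnit_left h1
  exact ⟨V, hV, hx, hu.unit, hab⟩

theorem isInvertible_iff' (J : X.Modules) (ι : J ⟶ kmod X) [Mono ι] :
    PicF.IsInvertible J ↔ ∀ x : X, ∃ (U : X.Opens) (_ : x ∈ U) (f : (Γ(kmod X, U))ˣ),
      ∀ (V : X.Opens) (hV : V ≤ U),
        Set.range (ι.app V) = {t : Γ(kmod X, V) | ∃ r : Γ(X, V), t = toK X V r * res (kmod X) hV f} := by
  have hι := (mono_iff ι).mp inferInstance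
  rw [isInvertible_iff]
  refine forall_congr' fun x => ⟨?_, ?_⟩
  · rintro ⟨U, e, hx, he⟩
    obtain ⟨V, hV, hxV, f, hf⟩ := exists_unit_near ι hι he ⟨x, hx⟩
    refine ⟨V, hxV, f, fun W hW => ?_⟩
    have h1 : res (kmod X) hW (f : Γ(kmod X, V)) = ι.app W (res J (hW.trans hV) e) := by
      rw [← hf, res_res, app_res]
    ext t
    constructor
    · rintro ⟨m, rfl⟩
      obtain ⟨r, hr⟩ := (he W (hW.trans hV)).2 m
      refine ⟨r, ?_⟩
      rw [h1, ← app_smul_k]
      exact congrArg _ hr.symm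
    · rintro ⟨r, rfl⟩
      exact ⟨r • res J (hW.trans hV) e, by rw [app_smul_k, h1]⟩
  · rintro ⟨U, hx, f, hf⟩
    obtain ⟨e, he⟩ : (f : Γ(kmod X, U)) ∈ Set.range (ι.app U) := by
      rw [hf U le_rfl]
      exact ⟨1, by rw [map_one, one_mul, res_refl]⟩
    refine ⟨U, e, hx, fun V hV => ⟨?_, ?_⟩⟩
    · intro a b hab
      have h1 := congrArg (ι.app V) hab
      simp only [app_smul_k, app_res, he] at h1
      have h2 : IsUnit (res (kmod X) hV (f : Γ(kmod X, U))) := (ures hV f).isUnit
      exact toK_injective V (h2.mul_right_cancel h1)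
    · intro m
      obtain ⟨r, hr⟩ : ι.app V m ∈ {t : Γ(kmod X, V) | ∃ r : Γ(X, V), t = toK X V r * res (kmod X) hV f} := by
        rw [← hf V hV]; exact ⟨m, rfl⟩
      refine ⟨r, hι V ?_⟩
      change ι.app V (r • res J hV e) = _
      rw [app_smul_k, app_res, he, hr]

end K149.FracIdeal
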