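import Groth.Agent.Mero.K149.Exist

/-!
# Meromorphic functions on a reduced scheme with finitely many components
-/

set_option autoImplicit false
universe u

open CategoryTheory CategoryTheory.Limits AlgebraicGeometry Opposite TopologicalSpace
open Groth.Agent.Fdesc.LocGen

namespace K149.GenPts

open Mero K149.Basic K149.Affine K149.Ass K149.MaxPt K149.Pseudo K149.Div K149.RegMero K149.Exist

variable {X : Scheme.{u}}

lemma subsingleton_bot (L : X.Modules) (O : X.Opens) (hO : O = ⊥) : Subsingleton Γ(L, O) := by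
  subst hO
  exact ⟨fun a b => res_ext L (ι := PEmpty.{1}) PEmpty.elim (fun i => i.elim) bot_le (fun i => i.elim)⟩

theorem eval_injective [IsReduced X] (U : X.Opens) {s : Γ(kmod X, U)}
    (h : ∀ x : U, IsMaxPt x.1 → s.1 x = 0) : s = 0 := by
  let V : X.Opens := sSup {V : X.Opens | ∃ hV : V ≤ U, res (kmod X) hV s = 0}
  have hVU : V ≤ U := sSup_le fun V ⟨hV, _⟩ => hV
  have hd : SDense V U := by
    refine sdense_of_maxPt fun x hx hmax => ?_
    obtain ⟨W, hW, hxW, h1⟩ := exists_eq_near (s := s) (t := 0) ⟨x, hx⟩ (h ⟨x, hx⟩ hmax)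
    exact Opens.mem_sSup.mpr ⟨W, ⟨hW, h1⟩, hxW⟩
  refine kmod_eq_zero hVU hd (kext fun x => ?_)
  obtain ⟨W, ⟨hW, h1⟩, hxW⟩ := Opens.mem_sSup.mp x.2
  exact congrFun (congrArg Subtype.val h1) ⟨x.1, hxW⟩

theorem eval_surjective [IsReduced X]
    (hX : ∀ x : X, ∃ W : X.Opens, x ∈ W ∧
      {Z : Set X | Z ∈ irreducibleComponents X ∧ (Z ∩ (W : Set X)).Nonempty}.Finite)
    (U : X.Opens) (k : ∀ x : {x : U // IsMaxPt x.1}, KStalk X x.1.1) :
    ∃ s : Γ(kmod X, U), ∀ x, s.1 x.1 = k x := by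
  choose W hW hown using fun ξ : {x : U // IsMaxPt x.1} => exists_own_nhd hX ξ.2
  choose V hVW hxV a b hab using fun ξ : {x : U // IsMaxPt x.1} =>
    exists_near (k ξ) (W ξ ⊓ U) ⟨hW ξ, ξ.1.2⟩
  have hdisj : ∀ ξ η : {x : U // IsMaxPt x.1}, ξ ≠ η → V ξ ⊓ V η = ⊥ := by
    intro ξ η hne
    rw [eq_bot_iff]
    intro y hy
    obtain ⟨ζ, hζ, hmax⟩ := exists_maxPt y
    have h1 := hown ξ y (hVW ξ hy.1).1 ζ hmax hζ
    have h2 := hown η y (hVW η hy.2).1 ζ hmax hζ
    exact (hne (Subtype.ext (Subtype.ext (h1.symm.trans h2)))).elim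
  obtain ⟨m, hm⟩ := res_glue (kmod X) V (fun ξ => le_iSup V ξ) le_rfl (fun ξ => frac (a ξ) (b ξ)) (by
    intro ξ η
    by_cases h : ξ = η
    · subst h; rfl
    · have := subsingleton_bot (kmod X) _ (hdisj ξ η h)
      exact Subsingleton.elim _ _)
  have hle : ⨆ ξ, V ξ ≤ U := iSup_le fun ξ => (hVW ξ).trans inf_le_right
  have hd : SDense (⨆ ξ, V ξ) U := by
    refine sdense_of_maxPt fun x hx hmax => ?_
    exact Opens.mem_iSup.mpr ⟨⟨⟨x, hx⟩, hmax⟩, hxV ⟨⟨x, hx⟩, hmax⟩⟩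
  obtain ⟨s, hs⟩ := (kmod_bijective (locFinAss_of_reduced X hX) hle hd).2 m
  refine ⟨s, fun ξ => ?_⟩
  rw [← hab ξ, ← hm ξ, ← hs]
  rfl

/-- At a maximal point of a reduced scheme the local ring is a field equal to `K_{X,x}`. -/
theorem bijective_of_isField {x : X} (h : IsField (X.presheaf.stalk x)) :
    Function.Bijective (algebraMap (X.presheaf.stalk x) (KStalk X x)) := by
  refine ⟨algebraMap_KStalk_injective x, fun k => ?_⟩
  obtain ⟨a, b, rfl⟩ := IsLocalization.exists_mk'_eq (regStalk X x) k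
  have : Nontrivial (X.presheaf.stalk x) := h.nontrivial
  have hb : (b : X.presheaf.stalk x) ≠ 0 := nonZeroDivisors.ne_zero (regStalk_le_nonZeroDivisors x b.2)
  obtain ⟨c, hc⟩ := h.mul_inv_cancel hb
  refine ⟨a * c, ?_⟩
  rw [eq_comm, IsLocalization.mk'_eq_iff_eq_mul, ← map_mul, mul_assoc, mul_comm c, hc, mul_one]

theorem main (X : Scheme.{u}) [IsReduced X] (hfin : (irreducibleComponents (X : Type u)).Finite)
    (U : X.Opens) :
    Function.Bijective (fun s : Γ(kmod X, U) =>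
      fun x : {x : U // closure ({x.1} : Set X) ∈ irreducibleComponents (X : Type u)} =>
        evalK X U x.1 s) ∧
    (∀ x : X, closure ({x} : Set X) ∈ irreducibleComponents (X : Type u) →
      IsField (X.presheaf.stalk x) ∧
        Function.Bijective (algebraMap (X.presheaf.stalk x) (KStalk X x))) := by
  have hX : ∀ x : X, ∃ W : X.Opens, x ∈ W ∧
      {Z : Set X | Z ∈ irreducibleComponents X ∧ (Z ∩ (W : Set X)).Nonempty}.Finite :=
    fun x => ⟨⊤, trivial, hfin.subset fun Z hZ => hZ.1⟩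
  refine ⟨⟨fun s t hst => ?_, fun k => ?_⟩, fun x hx => ?_⟩
  · rw [← sub_eq_zero]
    refine eval_injective U fun x hx => ?_
    have h1 : s.1 x = t.1 x := congrFun hst ⟨x, (isMaxPt_iff x.1).mp hx⟩
    change evalK X U x (s - t) = 0
    rw [map_sub, sub_eq_zero]
    exact h1
  · obtain ⟨s, hs⟩ := eval_surjective hX U (fun x => k ⟨x.1, (isMaxPt_iff x.1.1).mp x.2⟩)
    exact ⟨s, funext fun x => hs ⟨x.1, (isMaxPt_iff x.1.1).mpr x.2⟩⟩
  · have hf := isField_stalk_of_closure_mem_irreducibleComponents X x hx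
    exact ⟨hf, bijective_of_isField hf⟩

end K149.GenPts
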