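import Groth.Agent.Mero.K149.Depth

/-!
# Divisors on the spectrum of a local ring
-/

set_option autoImplicit false
universe u

open CategoryTheory CategoryTheory.Limits AlgebraicGeometry Opposite TopologicalSpace
open Groth.Agent.Fdesc.LocGen

namespace K149.LocalSpec

open Mero K149.Basic K149.Affine K149.Ass K149.MaxPt K149.Div K149.Depth

/-- The support of a divisor is closed. -/
lemma exists_nhd_eq_one {X : Scheme.{u}} (D : Divisor X) {x : X} (hx : D.1 x = 1) :
    ∃ U : X.Opens, x ∈ U ∧ ∀ y ∈ U, D.1 y = 1 := by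
  obtain ⟨U, hxU, f, hf⟩ := exists_local D x
  obtain ⟨u, hu⟩ := (mk_eq_one_iff (uval f ⟨x, hxU⟩)).mp ((hf ⟨x, hxU⟩).symm.trans hx)
  obtain ⟨V, hV, hxV, r, hr⟩ := exists_toK_near (f : Γ(kmod X, U)) ⟨x, hxU⟩ ⟨u, hu.symm⟩
  have h1 : IsUnit (og ⟨x, hxV⟩ r) := by
    have h2 : algebraMap _ (KStalk X x) (og ⟨x, hxV⟩ r) = algebraMap _ _ (u : X.presheaf.stalk x) := by
      rw [← hu]
      exact (congrFun (congrArg Subtype.val hr) ⟨x, hxV⟩).symm
    rw [algebraMap_KStalk_injective x h2]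
    exact u.isUnit
  refine ⟨X.basicOpen r, (Scheme.mem_basicOpen _ _ _ hxV).mpr h1, fun y hy => ?_⟩
  have hyV : y ∈ V := X.basicOpen_le r hy
  rw [hf ⟨y, hV hyV⟩, mk_eq_one_iff]
  refine ⟨((Scheme.mem_basicOpen _ _ _ hyV).mp hy).unit, ?_⟩
  exact congrFun (congrArg Subtype.val hr) ⟨y, hyV⟩

theorem isClosed_supp {X : Scheme.{u}} (D : Divisor X) : IsClosed (supp D) := by
  rw [← isOpen_compl_iff, isOpen_iff_forall_mem_open]
  intro x hx
  obtain ⟨U, hxU, hU⟩ := exists_nhd_eq_one D (not_not.mp hx)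
  exact ⟨U, fun y hy => not_not.mpr (hU y hy), U.2, hxU⟩

section

variable (A : Type u) [CommRing A] [IsLocalRing A]

local notation "XA" => Spec (CommRingCat.of A)

/-- The closed point. -/
noncomputable def pt : XA := IsLocalRing.closedPoint A

lemma eq_top_of_pt_mem {U : Scheme.Opens XA} (h : pt A ∈ U) : U = ⊤ :=
  (IsLocalRing.closedPoint_mem_iff U).mp h

/-- functions on `Spec A` -/
noncomputable def fn : A ≃+* Γ(XA, ⊤) := (Scheme.ΓSpecIso (CommRingCat.of A)).symm.commRingCatIsoToRingEquiv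

lemma isUnit_og_fn (a : A) (h : IsUnit (og (X := XA) (U := ⊤) ⟨pt A, trivial⟩ (fn A a))) : IsUnit a := by
  have h1 : pt A ∈ Scheme.basicOpen XA (fn A a) :=
    (Scheme.mem_basicOpen XA (fn A a) (pt A) (Opens.mem_top _)).mpr h
  have h2 := eq_top_of_pt_mem A h1
  have h3 : IsUnit (fn A a) := by
    have h4 : IsUnit (ores (Scheme.basicOpen_le XA (fn A a)) (fn A a)) :=
      (XA).toRingedSpace.isUnit_res_basicOpen (fn A a)
    have h5 : ∀ (U : Scheme.Opens XA) (hU : U ≤ ⊤), U = ⊤ → IsUnit (ores hU (fn A a)) → IsUnit (fn A a) := by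
      rintro U hU rfl h
      simpa using h
    exact h5 _ _ h2 h4
  exact (MulEquiv.isUnit_map (fn A)).mp h3

lemma og_fn_eq_zero (a : A) (h : og (X := XA) (U := ⊤) ⟨pt A, trivial⟩ (fn A a) = 0) : a = 0 := by
  obtain ⟨V, hV, hx, hV0⟩ := germ_eq_near (X := XA) (U := ⊤) ⟨pt A, trivial⟩ (a := fn A a) (b := 0)
    (h.trans (map_zero _).symm)
  have h5 : ∀ (U : Scheme.Opens XA) (hU : U ≤ ⊤), U = ⊤ → ores hU (fn A a) = ores hU 0 → fn A a = 0 := by
    rintro U hU rfl h
    simpa using h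
  have := h5 V hV (eq_top_of_pt_mem A hx) hV0
  exact (map_eq_zero_iff _ (fn A).injective).mp this

lemma exists_og_fn (t : (XA).presheaf.stalk (pt A)) :
    ∃ a : A, og (X := XA) (U := ⊤) ⟨pt A, trivial⟩ (fn A a) = t := by
  obtain ⟨V, hV, hx, c, rfl⟩ := germ_exists t ⊤ trivial
  obtain rfl := eq_top_of_pt_mem A hx
  obtain ⟨a, rfl⟩ := (fn A).surjective c
  exact ⟨a, rfl⟩

theorem divisor_eq_one_iff : (∀ D : Divisor XA, D = 1) ↔ LocCoh.depth A A = 0 := by
  rw [depth_eq_zero_iff]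
  constructor
  · intro h b hb hreg
    have hreg' : fn A b ∈ regSub XA ⊤ := by
      rw [regSub_eq (isAffineOpen_top XA)]
      exact (MulEquivClass.map_nonZeroDivisors (fn A)).le (Submonoid.mem_map_of_mem (fn A) hreg)
    let f : (Γ(kmod XA, ⊤))ˣ := (isUnit_toK hreg').unit
    have h1 : (div f).1 (pt A) = 1 := by rw [h (div f)]; rfl
    obtain ⟨u, hu⟩ := (mk_eq_one_iff (uval f ⟨pt A, trivial⟩)).mp h1
    have h2 : IsUnit (og (X := XA) (U := ⊤) ⟨pt A, trivial⟩ (fn A b)) := by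
      have h3 : algebraMap _ (KStalk XA (pt A)) (og (X := XA) (U := ⊤) ⟨pt A, trivial⟩ (fn A b)) =
          algebraMap _ _ (u : (XA).presheaf.stalk (pt A)) := hu
      rw [algebraMap_KStalk_injective _ h3]
      exact u.isUnit
    exact hb (isUnit_og_fn A b h2)
  · intro h D
    have h1 : D.1 (pt A) = 1 := by
      refine eq_one_of_forall_isUnit D (pt A) fun t ht => ?_
      obtain ⟨a, rfl⟩ := exists_og_fn A t
      have ha : a ∈ nonZeroDivisors A := by
        rw [mem_nonZeroDivisors_iff_right]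
        intro c hc
        apply og_fn_eq_zero
        refine (mem_nonZeroDivisors_iff_right.mp ht) _ ?_
        rw [← map_mul, ← map_mul, hc, map_zero, map_zero]
      have hu : IsUnit a := by
        by_contra hnu
        exact h a hnu ha
      exact (hu.map (fn A)).map _
    obtain ⟨U, hU, hU1⟩ := exists_nhd_eq_one D h1
    obtain rfl := eq_top_of_pt_mem A hU
    exact divisor_ext fun x => hU1 x trivial

end

end K149.LocalSpec
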