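import Groth.Agent.Mero.K149.Exist
import Groth.Agent.Fdesc.QCohStalk
import Groth.Agent.Ega2.QCohLocal

/-!
# Sections of an invertible module generating it at finitely many points of an affine open
-/

set_option autoImplicit false
universe u

open CategoryTheory CategoryTheory.Limits AlgebraicGeometry Opposite TopologicalSpace
open Groth.Agent.Fdesc.LocGen

namespace K149.SemiLoc

open Mero K149.Basic K149.Affine K149.Ass K149.MaxPt K149.Pseudo K149.Div K149.RegMero K149.Exist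

variable {X : Scheme.{u}}

/-- `m` generates `L` near `x`. -/
def GenAt {L : X.Modules} {W : X.Opens} (m : Γ(L, W)) (x : W) : Prop :=
  ∃ (V : X.Opens) (hV : V ≤ W), x.1 ∈ V ∧ IsGen (res L hV m)

lemma isUnit_near {U : X.Opens} (x : U) {c : Γ(X, U)} (h : IsUnit (og x c)) :
    ∃ (V : X.Opens) (hV : V ≤ U), x.1 ∈ V ∧ IsUnit (ores hV c) :=
  ⟨X.basicOpen c, X.basicOpen_le c, (Scheme.mem_basicOpen _ _ _ x.2).mpr h,
    X.toRingedSpace.isUnit_res_basicOpen c⟩

/-- `m` generates at `x` iff its coordinate in a generator is a unit at `x`. -/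
lemma genAt_iff {L : X.Modules} {W V : X.Opens} {m : Γ(L, W)} (hV : V ≤ W) (x : V) {e : Γ(L, V)}
    (he : IsGen e) {c : Γ(X, V)} (h : res L hV m = c • e) :
    GenAt m ⟨x.1, hV x.2⟩ ↔ IsUnit (og x c) := by
  constructor
  · rintro ⟨V', hV', hx', hg⟩
    have h1 : res L (inf_le_right.trans hV' : V ⊓ V' ≤ W) m =
        ores (inf_le_left : V ⊓ V' ≤ V) c • res L (inf_le_left : V ⊓ V' ≤ V) e := by
      rw [← res_res L hV inf_le_left, h, res_smul]
    have h2 : IsGen (ores (inf_le_left : V ⊓ V' ≤ V) c • res L (inf_le_left : V ⊓ V' ≤ V) e) := by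
      rw [← h1, ← res_res L hV' inf_le_right]
      exact hg.res _
    have h3 := (he.res (inf_le_left : V ⊓ V' ≤ V)).isUnit_of_smul h2
    have h4 := h3.map (og (U := V ⊓ V') ⟨x.1, ⟨x.2, hx'⟩⟩)
    rwa [og_ores inf_le_left] at h4
  · intro hu
    obtain ⟨V', hV', hx', hu'⟩ := isUnit_near x hu
    refine ⟨V', hV'.trans hV, hx', ?_⟩
    rw [← res_res L hV hV', h, res_smul]
    exact (he.res hV').unit_smul hu'

lemma exists_genAt {L : X.Modules} (hL : PicF.IsInvertible L) {W : X.Opens} (hW : IsAffineOpen W)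
    (x : W) : ∃ m : Γ(L, W), GenAt m x := by
  obtain ⟨U, e, hx, he⟩ := (isInvertible_iff L).mp hL x.1
  obtain ⟨g, s, hg, hs⟩ := Groth.Agent.Fdesc.QCohStalk.exists_germ_eq_smul L hW
    (Groth.Agent.Ega2.QCohLocal.isQCoh_of_isInvertible hL) x.1 x.2 (mg L ⟨x.1, hx⟩ e)
  obtain ⟨c, hc⟩ := (he (W ⊓ U) inf_le_right).2 (res L inf_le_left s)
  refine ⟨s, (genAt_iff (inf_le_left : W ⊓ U ≤ W) ⟨x.1, ⟨x.2, hx⟩⟩ (he.res inf_le_right) hc.symm).mpr ?_⟩
  have hgu : IsUnit (og x g) := (Scheme.mem_basicOpen _ _ _ x.2).mp hg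
  have h1 : og (U := W ⊓ U) ⟨x.1, ⟨x.2, hx⟩⟩ c = og x g := by
    have h2 : mg L x s = og x g • mg L ⟨x.1, hx⟩ e := hs
    have h3 : mg L (U := W ⊓ U) ⟨x.1, ⟨x.2, hx⟩⟩ (c • res L inf_le_right e) =
        mg L (U := W ⊓ U) ⟨x.1, ⟨x.2, hx⟩⟩ (res L inf_le_left s) := congrArg _ hc
    rw [mg_smul, mg_res L inf_le_right, mg_res L inf_le_left, h2] at h3
    have h4 : (og (U := W ⊓ U) ⟨x.1, ⟨x.2, hx⟩⟩ c - og x g) • mg L ⟨x.1, hx⟩ e = 0 := by
      rw [sub_smul, h3, sub_self]
    exact sub_eq_zero.mp (mg_gen_injective he ⟨x.1, hx⟩ h4)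
  rw [h1]
  exact hgu

lemma GenAt.generize {L : X.Modules} {W : X.Opens} {m : Γ(L, W)} {x y : W} (h : GenAt m y)
    (hxy : x.1 ⤳ y.1) : GenAt m x := by
  obtain ⟨V, hV, hy, hg⟩ := h
  exact ⟨V, hV, hxy.mem_open V.2 hy, hg⟩

/-- An invertible module on an affine open has a section generating at finitely many given points. -/
theorem exists_genAt_finite {L : X.Modules} (hL : PicF.IsInvertible L) {W : X.Opens}
    (hW : IsAffineOpen W) (P : Set (PrimeSpectrum Γ(X, W))) (hP : P.Finite) :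
    ∃ m : Γ(L, W), ∀ x : W, hW.primeIdealOf x ∈ P → GenAt m x := by
  classical
  let Pm : Set (PrimeSpectrum Γ(X, W)) := {p | Maximal (· ∈ P) p}
  have hPm : Pm.Finite := hP.subset fun p hp => hp.1
  choose pt hpt using fun p : PrimeSpectrum Γ(X, W) => exists_point hW p.asIdeal
  choose m hm using fun p : PrimeSpectrum Γ(X, W) => exists_genAt hL hW (pt p)
  have ha : ∀ p ∈ Pm, ∃ a : Γ(X, W), a ∉ p.asIdeal ∧ ∀ q ∈ Pm, q ≠ p → a ∈ q.asIdeal := by
    intro p hp
    have h1 : ¬ ((hPm.toFinset.erase p).inf (fun q => q.asIdeal) ≤ p.asIdeal) := by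
      rw [p.2.inf_le']
      rintro ⟨q, hq, hle⟩
      rw [Finset.mem_erase, Set.Finite.mem_toFinset] at hq
      exact hq.1 (le_antisymm hle (hq.2.2 hp.1 hle))
    obtain ⟨a, ha, hap⟩ := SetLike.not_le_iff_exists.mp h1
    refine ⟨a, hap, fun q hq hne => ?_⟩
    rw [Submodule.mem_finsetInf] at ha
    exact ha q (Finset.mem_erase.mpr ⟨hne, hPm.mem_toFinset.mpr hq⟩)
  choose! a ha ha' using ha
  refine ⟨∑ p ∈ hPm.toFinset, a p • m p, ?_⟩
  have key : ∀ q ∈ Pm, GenAt (∑ p ∈ hPm.toFinset, a p • m p) (pt q) := by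
    intro q hq
    obtain ⟨U, e, hx, he⟩ := (isInvertible_iff L).mp hL (pt q).1
    have he' := he.res (inf_le_right : W ⊓ U ≤ U)
    choose c hc using fun p : PrimeSpectrum Γ(X, W) =>
      (he (W ⊓ U) inf_le_right).2 (res L (inf_le_left : W ⊓ U ≤ W) (m p))
    have h1 : res L (inf_le_left : W ⊓ U ≤ W) (∑ p ∈ hPm.toFinset, a p • m p) =
        (∑ p ∈ hPm.toFinset, ores inf_le_left (a p) * c p) • res L inf_le_right e := by
      rw [map_sum, Finset.sum_smul]
      refine Finset.sum_congr rfl fun p _ => ?_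
      rw [res_smul, mul_smul]
      congr 1
      exact (hc p).symm
    let y : (W ⊓ U : X.Opens) := ⟨(pt q).1, ⟨(pt q).2, hx⟩⟩
    refine (genAt_iff (inf_le_left : W ⊓ U ≤ W) y he' h1).mpr ?_
    rw [map_sum, ← Finset.add_sum_erase _ _ (hPm.mem_toFinset.mpr hq)]
    have h2 : IsUnit (og y (ores inf_le_left (a q) * c q)) := by
      rw [map_mul, og_ores inf_le_left]
      refine IsUnit.mul ?_ ?_
      · refine (isUnit_og_iff hW (pt q) (a q)).mpr ?_
        rw [hpt]; exact ha q hq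
      · exact (genAt_iff (inf_le_left : W ⊓ U ≤ W) y he' (hc q).symm).mp (hm q)
    have h3 : ∑ p ∈ hPm.toFinset.erase q, og y (ores inf_le_left (a p) * c p) ∈
        IsLocalRing.maximalIdeal (X.presheaf.stalk y.1) := by
      refine Ideal.sum_mem _ fun p hp => ?_
      rw [Finset.mem_erase, Set.Finite.mem_toFinset] at hp
      rw [map_mul, og_ores inf_le_left]
      refine Ideal.mul_mem_right _ _ ?_
      refine (mem_maximalIdeal_og_iff hW (pt q) (a p)).mpr ?_
      rw [hpt]; exact ha' p hp.2 q hq (Ne.symm hp.1)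
    by_contra hcon
    have h4 : og y (ores inf_le_left (a q) * c q) + ∑ p ∈ hPm.toFinset.erase q,
        og y (ores inf_le_left (a p) * c p) ∈ IsLocalRing.maximalIdeal (X.presheaf.stalk y.1) := hcon
    have h5 := (Ideal.add_mem_iff_left _ h3).mp h4
    exact h5 h2
  intro x hx
  obtain ⟨q, hle, hq⟩ := hP.exists_le_maximal hx
  refine (key q hq).generize ?_
  rw [← primeIdealOf_le_iff hW x (pt q)]
  have : hW.primeIdealOf (pt q) = q := PrimeSpectrum.ext (hpt q)
  rw [this]; exact hle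

/-- Case a): all associated points in an affine open. -/
theorem exists_iso_of_affine [IsLocallyNoetherian X]
    (hX : ∃ W : X.Opens, IsAffineOpen W ∧ ∀ x : X, IsAss x → x ∈ W)
    (L : X.Modules) (hL : PicF.IsInvertible L) : ∃ D : Divisor X, Nonempty (L ≅ divMod D) := by
  obtain ⟨W, hW, hass⟩ := hX
  have := isNoetherianRing_of_isAffineOpen hW
  let P : Set (PrimeSpectrum Γ(X, W)) := PrimeSpectrum.asIdeal ⁻¹' (associatedPrimes Γ(X, W) Γ(X, W))
  have hP : P.Finite := (associatedPrimes.finite _ _).preimage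
    (fun _ _ _ _ h => PrimeSpectrum.ext h)
  obtain ⟨m, hm⟩ := exists_genAt_finite hL hW P hP
  choose V hV hxV hg using hm
  let ι := {x : W // hW.primeIdealOf x ∈ P}
  let V' : ι → X.Opens := fun i => V i.1 i.2
  have hle : ⨆ i, V' i ≤ W := iSup_le fun i => hV _ _
  have hgen : IsGen (res L hle m) := by
    refine IsGen.of_cover V' (fun i => le_iSup V' i) le_rfl fun i => ?_
    rw [res_res]
    exact hg i.1 i.2
  refine exists_iso_of_sdense (locFinAss_of_locallyNoetherian X) hL (sdense_of_isAss fun x _ hx => ?_) hgen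
  have hxW := hass x hx
  have hxP : hW.primeIdealOf ⟨x, hxW⟩ ∈ P := (isAss_iff hW ⟨x, hxW⟩).mp hx
  exact Opens.mem_iSup.mpr ⟨⟨⟨x, hxW⟩, hxP⟩, hxV _ _⟩

end K149.SemiLoc
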