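import Groth.Agent.Mero.K149.RegMero
import Groth.Agent.Ega2.Tens
import Groth.Agent.Fdesc.LocGenTensor
import Groth.Prelude.Def_SecTwist

/-!
# `O_X(D) ⊗ O_X(E) ≅ O_X(D · E)`
-/

set_option autoImplicit false
universe u

open CategoryTheory CategoryTheory.Limits AlgebraicGeometry Opposite TopologicalSpace
open Groth.Agent.Fdesc.LocGen

namespace K149.Tensor

open Mero K149.Basic K149.Affine K149.Div K149.RegMero

variable {X : Scheme.{u}}

/-- Product of sections. -/
noncomputable def mulSec (D E : Divisor X) {U : X.Opens} (t : Γ(divMod D, U)) (t' : Γ(divMod E, U)) :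
    Γ(divMod (D * E), U) :=
  mkSec (D * E) ((divModι D).app U t * (divModι E).app U t')
    (fun x => divCond_mul (t.2.2 x) (t'.2.2 x))

lemma divModι_mulSec (D E : Divisor X) {U : X.Opens} (t : Γ(divMod D, U)) (t' : Γ(divMod E, U)) :
    (divModι (D * E)).app U (mulSec D E t t') = (divModι D).app U t * (divModι E).app U t' := rfl

lemma divModι_ext {D : Divisor X} {U : X.Opens} {s t : Γ(divMod D, U)}
    (h : (divModι D).app U s = (divModι D).app U t) : s = t := divModι_injective D U h

/-- Bilinear product. -/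
noncomputable def mulBil (D E : Divisor X) (U : X.Opens) :
    Γ(divMod D, U) →ₗ[Γ(X, U)] Γ(divMod E, U) →ₗ[Γ(X, U)] Γ(divMod (D * E), U) :=
  LinearMap.mk₂ Γ(X, U) (mulSec D E)
    (fun m m' n => divModι_ext (by
      rw [map_add, divModι_mulSec, divModι_mulSec, divModι_mulSec, map_add, add_mul]))
    (fun a m n => divModι_ext (by
      rw [divModι_smul, divModι_mulSec, divModι_mulSec, divModι_smul, mul_assoc]))
    (fun m n n' => divModι_ext (by
      rw [map_add, divModι_mulSec, divModι_mulSec, divModι_mulSec, map_add, mul_add]))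
    (fun a m n => divModι_ext (by
      rw [divModι_smul, divModι_mulSec, divModι_mulSec, divModι_smul, mul_left_comm]))

/-- The multiplication `O_X(D) ⊗ O_X(E) ⟶ O_X(D · E)`. -/
noncomputable def mu (D E : Divisor X) : CohB1.tensorMod (divMod D) (divMod E) ⟶ divMod (D * E) :=
  Groth.Agent.Ega2.Tens.lift (mulBil D E) (fun U V i m n => rfl)

lemma mu_tmul (D E : Divisor X) (U : X.Opens) (t : Γ(divMod D, U)) (t' : Γ(divMod E, U)) :
    (mu D E).app U (SecTwist.tmul (divMod D) (divMod E) U t t') = mulSec D E t t' :=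
  Groth.Agent.Ega2.Tens.lift_tmul (mulBil D E) _ U t t'

theorem isIso_mu (D E : Divisor X) : IsIso (mu D E) := by
  apply isIso_of_isGen
  intro x
  obtain ⟨U, hx, f, hf⟩ := exists_local D x
  obtain ⟨V, hx', g, hg⟩ := exists_local E x
  have hf' := hf.res (inf_le_left : U ⊓ V ≤ U)
  have hg' := hg.res (inf_le_right : U ⊓ V ≤ V)
  refine ⟨U ⊓ V, SecTwist.tmul (divMod D) (divMod E) (U ⊓ V) (gen hf') (gen hg'), ⟨hx, hx'⟩,
    (isGen_gen hf').tmul (isGen_gen hg'), ?_⟩
  rw [mu_tmul]
  have h1 : mulSec D E (gen hf') (gen hg') = gen (hf'.mul hg') := by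
    apply divModι_ext
    rw [divModι_mulSec, divModι_gen, divModι_gen, divModι_gen, mul_inv_rev, Units.val_mul, mul_comm]
  rw [h1]
  exact isGen_gen _

end K149.Tensor
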