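import Groth.Agent.Mero.K149.Ass
import Groth.Agent.Mero.K149.RegMero
import Groth.Agent.Fdesc.QCohStalk
import Groth.Prelude.Def_CurvBase

/-!
# Torsion-free quasi-coherent modules and associated points
-/

set_option autoImplicit false
universe u

open CategoryTheory CategoryTheory.Limits AlgebraicGeometry Opposite TopologicalSpace
open Groth.Agent.Fdesc.LocGen

namespace K149.TorsFree

open Mero K149.Basic K149.Affine K149.Ass K149.MaxPt K149.Div K149.RegMero

variable {X : Scheme.{u}}

/-- `F → K_X(F)` is a monomorphism iff regular functions act injectively. -/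
theorem mono_toMer_iff (F : X.Modules) : Mono (toMer F) ↔
    ∀ (U : X.Opens) (b : Γ(X, U)) (m : Γ(F, U)), b ∈ regSub X U → b • m = 0 → m = 0 := by
  rw [mono_iff]
  have happ : ∀ (U : X.Opens) (m : Γ(F, U)) (x : U), ((toMer F).app U m).1 x = mq F x m := fun _ _ _ => rfl
  constructor
  · intro h U b m hb hbm
    apply h U
    rw [map_zero]
    refine mext fun x => ?_
    rw [happ]
    change LocalizedModule.mk (mg F x m) 1 = (0 : MStalk F x.1)
    rw [← LocalizedModule.zero_mk 1, LocalizedModule.mk_eq]
    refine ⟨regGerm x ⟨b, hb⟩, ?_⟩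
    simp only [smul_zero, one_smul]
    have h1 := congrArg (mg F x) hbm
    rw [mg_smul, map_zero] at h1
    exact h1
  · intro h U
    rw [injective_iff_map_eq_zero]
    intro m hm
    have key : ∀ x : U, ∃ (V : X.Opens) (hV : V ≤ U), x.1 ∈ V ∧ res F hV m = 0 := by
      intro x
      have h1 : mq F x m = 0 := by rw [← happ, hm]; rfl
      rw [mq, ← LocalizedModule.zero_mk 1, LocalizedModule.mk_eq] at h1
      obtain ⟨⟨_, V, hxV, b, hb, rfl⟩, hu⟩ := h1
      simp only [smul_zero, one_smul] at hu
      have h2 : mg F (U := V ⊓ U) ⟨x.1, ⟨hxV, x.2⟩⟩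
          (ores (inf_le_left : V ⊓ U ≤ V) b • res F (inf_le_right : V ⊓ U ≤ U) m) =
          mg F (U := V ⊓ U) ⟨x.1, ⟨hxV, x.2⟩⟩ 0 := by
        rw [mg_smul, og_ores inf_le_left, mg_res F inf_le_right, map_zero]
        exact hu
      obtain ⟨W, hW, hxW, h3⟩ := mg_eq_near F _ h2
      rw [res_smul, res_res, ores_ores, map_zero] at h3
      exact ⟨W, hW.trans inf_le_right, hxW, h W _ _ (ores_mem _ hb) h3⟩
    choose V hV hx h0 using key
    have hcov : U ≤ ⨆ x, V x := fun x hxU => Opens.mem_iSup.mpr ⟨⟨x, hxU⟩, hx ⟨x, hxU⟩⟩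
    exact res_ext F V hV hcov fun i => by rw [h0, map_zero]

theorem mono_toMer_iff_ass [IsLocallyNoetherian X] (F : X.Modules) (hF : Coh.IsQCoh F) :
    Mono (toMer F) ↔ ∀ x : X, Curv2.IsAssPoint F x → IsAss x := by
  rw [mono_toMer_iff]
  constructor
  · intro h x hx
    by_contra hcon
    obtain ⟨-, m, hm⟩ := isAssociatedPrime_iff.mp (show IsAssociatedPrime _ _ from hx)
    -- a regular element of the maximal ideal
    obtain ⟨b, hbm, hb⟩ : ∃ b ∈ IsLocalRing.maximalIdeal (X.presheaf.stalk x),
        b ∈ nonZeroDivisors (X.presheaf.stalk x) := by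
      by_contra hno
      push Not at hno
      have h1 : (IsLocalRing.maximalIdeal (X.presheaf.stalk x) : Set (X.presheaf.stalk x)) ⊆
          ⋃ p ∈ associatedPrimes (X.presheaf.stalk x) (X.presheaf.stalk x), (id p : Ideal (X.presheaf.stalk x)) := by
        intro b hb
        have h2 := hno b hb
        have h3 : b ∈ ((nonZeroDivisors (X.presheaf.stalk x) : Set _))ᶜ := h2
        rw [← biUnion_associatedPrimes_eq_compl_nonZeroDivisors] at h3
        exact h3
      obtain ⟨p, hp, hle⟩ := (Ideal.subset_union_prime_finite (associatedPrimes.finite _ _)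
        (f := id) ⊥ ⊥ (fun p hp _ _ => IsAssociatedPrime.isPrime hp)).mp h1
      have hpp : p.IsPrime := IsAssociatedPrime.isPrime hp
      have h4 : IsLocalRing.maximalIdeal (X.presheaf.stalk x) = p :=
        le_antisymm hle (IsLocalRing.le_maximalIdeal hpp.ne_top)
      apply hcon
      rw [← h4] at hp
      exact hp
    have hbm0 : b • m = 0 := by
      rw [hm] at hbm
      simpa using hbm
    have hm0 : m ≠ 0 := by
      rintro rfl
      apply (IsLocalRing.maximalIdeal.isMaximal (X.presheaf.stalk x)).ne_top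
      rw [hm]; simp
    obtain ⟨V, -, hxV, m', rfl⟩ := mg_exists F m ⊤ trivial
    obtain ⟨V', hV'V, hxV', b', rfl⟩ := germ_exists b V hxV
    obtain ⟨W, -, hW, hxW, hreg⟩ := mem_regSub_near_of_germ ⟨x, hxV'⟩ hb
    have h2 : mg F ⟨x, hxW⟩ (ores hW b' • res F (hW.trans hV'V) m') = mg F ⟨x, hxW⟩ 0 := by
      rw [mg_smul, og_ores hW, mg_res F (hW.trans hV'V), map_zero]
      exact hbm0
    obtain ⟨W', hW', hxW', h3⟩ := mg_eq_near F _ h2
    rw [res_smul, res_res, ores_ores, map_zero] at h3
    have h4 := h W' _ _ (ores_mem hW' (by exact hreg)) (by rw [ores_ores]; exact h3)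
    apply hm0
    rw [← mg_res F ((hW'.trans hW).trans hV'V) ⟨x, hxW'⟩ m', h4, map_zero]
  · intro h U b m hb hbm
    -- it suffices to check on affine opens
    have key : ∀ x : U, ∃ (V : X.Opens) (hV : V ≤ U), x.1 ∈ V ∧ res F hV m = 0 := by
      intro x
      obtain ⟨V, hVa, hxV, hVU⟩ := exists_affine_le x.2
      refine ⟨V, hVU, hxV, ?_⟩
      by_contra hne
      have := isNoetherianRing_of_isAffineOpen hVa
      obtain ⟨P, hP, hle⟩ := exists_le_isAssociatedPrime_of_isNoetherianRing Γ(X, V) (res F hVU m) hne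
      have := hP.isPrime
      obtain ⟨y, hy⟩ := exists_point hVa P
      have hbP : ores hVU b ∈ P := by
        apply hle
        rw [Submodule.mem_colon_singleton, Submodule.mem_bot, ← res_smul, hbm, map_zero]
      -- `y` is an associated point of `F`
      have hyF : Curv2.IsAssPoint F y.1 := by
        let _ : Algebra Γ(X, V) (X.presheaf.stalk y.1) := X.presheaf.algebra_section_stalk y
        have hloc := hVa.isLocalization_stalk y
        let _ : Module Γ(X, V) (F.presheaf.stalk y.1) := Module.compHom _ (algebraMap Γ(X, V) (X.presheaf.stalk y.1))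
        have : IsScalarTower Γ(X, V) (X.presheaf.stalk y.1) (F.presheaf.stalk y.1) :=
          IsScalarTower.of_algebraMap_smul fun _ _ => rfl
        let g : Γ(F, V) →ₗ[Γ(X, V)] F.presheaf.stalk y.1 :=
          { toFun := mg F y
            map_add' := map_add _
            map_smul' := fun r m => mg_smul F y r m }
        have hg : IsLocalizedModule (hVa.primeIdealOf y).asIdeal.primeCompl g := by
          refine ⟨?_, ?_, ?_⟩
          · intro t
            rw [Module.End.isUnit_iff]
            have hu : IsUnit (og y t.1) := (isUnit_og_iff hVa y t.1).mpr t.2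
            constructor
            · intro a a' haa
              exact hu.smul_left_cancel.mp haa
            · intro a
              obtain ⟨v, hv⟩ := hu.exists_right_inv
              refine ⟨v • a, ?_⟩
              change og y t.1 • v • a = a
              rw [smul_smul, hv, one_smul]
          · intro a
            obtain ⟨t, s, ht, hs⟩ := Groth.Agent.Fdesc.QCohStalk.exists_germ_eq_smul F hVa hF y.1 y.2 a
            refine ⟨⟨s, ⟨t, ?_⟩⟩, hs.symm⟩
            exact (isUnit_og_iff hVa y t).mp ((Scheme.mem_basicOpen _ _ _ y.2).mp ht)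
          · intro a a' haa
            have h1 : mg F y (a - a') = 0 := by
              rw [map_sub, sub_eq_zero]; exact haa
            obtain ⟨t, ht, h0⟩ := Groth.Agent.Fdesc.QCohStalk.exists_smul_eq_zero_of_germ_eq_zero F hVa hF
              y.1 y.2 _ h1
            refine ⟨⟨t, (isUnit_og_iff hVa y t).mp ((Scheme.mem_basicOpen _ _ _ y.2).mp ht)⟩, ?_⟩
            rw [smul_sub, sub_eq_zero] at h0
            exact h0
        refine Module.associatedPrimes.mem_associatedPrimes_of_comap_mem_associatedPrimes_of_isLocalizedModule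
          (hVa.primeIdealOf y).asIdeal.primeCompl g (IsLocalRing.maximalIdeal (X.presheaf.stalk y.1)) ?_
        have h2 : (IsLocalRing.maximalIdeal (X.presheaf.stalk y.1)).comap
            (algebraMap Γ(X, V) (X.presheaf.stalk y.1)) = (hVa.primeIdealOf y).asIdeal :=
          IsLocalization.AtPrime.under_maximalIdeal (X.presheaf.stalk y.1) (hVa.primeIdealOf y).asIdeal
        rw [h2, hy]
        exact hP
      have hyO := h y.1 hyF
      have h3 : IsUnit (og (U := U) ⟨y.1, hVU y.2⟩ b) := isUnit_of_isAss hyO (hb ⟨y.1, hVU y.2⟩)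
      rw [← og_ores hVU y b, isUnit_og_iff hVa, hy] at h3
      exact h3 hbP
    choose V hV hx h0 using key
    have hcov : U ≤ ⨆ x, V x := fun x hxU => Opens.mem_iSup.mpr ⟨⟨x, hxU⟩, hx ⟨x, hxU⟩⟩
    exact res_ext F V hV hcov fun i => by rw [h0, map_zero]

end K149.TorsFree
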